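import Cfsg.Agent.Lib.ThreeTI.Grid.Algebra

/-!
The arithmetic of the exceptional characters for the normaliser `S₃ × S₃` from the three products of elements
of order three alone: the values at the third involution replace the two other products.
-/

set_option autoImplicit false
set_option maxRecDepth 20000

namespace Cfsg.Agent.Co2Three.Grid.Alg

open Cfsg.Agent.ThreeTI
open Cfsg.Agent.ThreeTI.Grid (gram configs keyOK_five search_gram key_le E10 E01 E11 E12 E21 ratio)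

/-- The products of elements of order three. -/
def prods : List ((Fin 5 → ℤ) → ℤ) :=
  [fun c => E10 c * E01 c, fun c => E10 c * E11 c, fun c => E01 c * E11 c]

/-- The numerical data. -/
structure Sys (I : Type*) [Fintype I] [DecidableEq I] where
  o : I
  κ : I → Fin 5 → ℤ
  d : I → ℤ
  t : I → ℤ
  u : I → ℤ
  v : I → ℤ
  κ_o : κ o = ![1, 0, 0, 1, 0]
  d_o : d o = 1
  t_o : t o = 1
  u_o : u o = 1
  v_o : v o = 1
  d_pos : ∀ i, 0 < d i
  orth : ∀ k l, ∑ i, κ i k * κ i l = κ o k * κ o l + gram k l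
  van_d : ∀ k, ∑ i, κ i k * d i = 0
  van_t : ∀ k, ∑ i, κ i k * t i = 0
  van_u : ∀ k, ∑ i, κ i k * u i = 0
  van_v : ∀ k, ∑ i, κ i k * v i = 0
  bound : ∀ i, |v i| ≤ d i
  full : ∀ i, v i = d i → E10 (κ i) = d i
  lin : ∀ i, d i = 1 → t i * t i = 1 ∧ u i * u i = 1 ∧ v i = t i * u i
  cong_t : ∀ i, 3 ∣ t i - E12 (κ i)
  cong_u : ∀ i, 3 ∣ u i - E21 (κ i)
  cong_d : ∀ i, 9 ∣ d i + 2 * E10 (κ i) + 2 * E01 (κ i) + 4 * E11 (κ i)
  eq_t : ∀ P ∈ prods, ∑ i, ((P (κ i) * t i : ℤ) : ℚ) / d i = 0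
  eq_u : ∀ P ∈ prods, ∑ i, ((P (κ i) * u i : ℤ) : ℚ) / d i = 0
  eq_v : ∑ i, ((E10 (κ i) * E01 (κ i) * v i : ℤ) : ℚ) / d i = 0

variable {I : Type*} [Fintype I] [DecidableEq I]

/-- One nonprincipal column, normalised to have leading entry `1`. -/
structure Col where
  c : Fin 5 → ℤ
  d : ℤ
  t : ℤ
  u : ℤ
  v : ℤ

/-- A column satisfies the local conditions. -/
structure Col.OK (C : Col) : Prop where
  d_ne : C.d ≠ 0
  cong_t : 3 ∣ C.t - E12 C.c
  cong_u : 3 ∣ C.u - E21 C.c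
  cong_d : 9 ∣ C.d + 2 * E10 C.c + 2 * E01 C.c + 4 * E11 C.c
  bound : |C.v| ≤ |C.d|
  full : C.v = C.d → E10 C.c = C.d
  lin : C.d = 1 → C.t * C.t = 1 ∧ C.u * C.u = 1 ∧ C.v = C.t * C.u

/-- The global conditions on a list of columns. -/
structure Global (l : List Col) : Prop where
  ok : ∀ C ∈ l, C.OK
  van_d : ∀ k, (![1, 0, 0, 1, 0] : Fin 5 → ℤ) k + (l.map fun C => C.c k * C.d).sum = 0
  van_t : ∀ k, (![1, 0, 0, 1, 0] : Fin 5 → ℤ) k + (l.map fun C => C.c k * C.t).sum = 0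
  van_u : ∀ k, (![1, 0, 0, 1, 0] : Fin 5 → ℤ) k + (l.map fun C => C.c k * C.u).sum = 0
  van_v : ∀ k, (![1, 0, 0, 1, 0] : Fin 5 → ℤ) k + (l.map fun C => C.c k * C.v).sum = 0
  eq_t : ∀ P ∈ prods, (P ![1, 0, 0, 1, 0] : ℚ) +
    (l.map fun C => ((P C.c * C.t : ℤ) : ℚ) / C.d).sum = 0
  eq_u : ∀ P ∈ prods, (P ![1, 0, 0, 1, 0] : ℚ) +
    (l.map fun C => ((P C.c * C.u : ℤ) : ℚ) / C.d).sum = 0
  eq_v : (1 : ℚ) + (l.map fun C => ((E10 C.c * E01 C.c * C.v : ℤ) : ℚ) / C.d).sum = 0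

/-- What is to be found. -/
def Found (l : List Col) : Prop :=
  ∃ A ∈ l, ∃ B ∈ l, A.d = 1 ∧ B.d = 1 ∧ 3 ∣ A.t - 1 ∧ 3 ∣ A.u + 1 ∧ 3 ∣ B.t + 1 ∧ 3 ∣ B.u - 1

theorem ratio' {d x : ℤ} (hd : d ≠ 0) : ∃ ρ : ℚ, (x : ℚ) / d = ρ + 1 ∧ (x : ℚ) - d = ρ * d := by
  refine ⟨(x : ℚ) / d - 1, by ring, ?_⟩
  field_simp

theorem case_grid {a b c d e g h f : Col}
    (ea : a.c = ![1, 0, 0, 0, 1]) (eb : b.c = ![1, 0, 0, 0, 0]) (ec : c.c = ![0, 1, 0, 1, 0])
    (ed : d.c = ![0, 1, 0, 0, 1]) (ee : e.c = ![0, 1, 0, 0, 0]) (eg : g.c = ![0, 0, 1, -1, 0])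
    (eh : h.c = ![0, 0, 1, 0, -1]) (ef : f.c = ![0, 0, 1, 0, 0])
    (H : Global [a, b, c, d, e, g, h, f]) : Found [a, b, c, d, e, g, h, f] := by
  obtain ⟨ok, vd, vt, vu, vv, et, eu, ev⟩ := H
  simp only [List.forall_mem_cons, List.not_mem_nil, false_imp_iff, implies_true, and_true] at ok
  obtain ⟨oa, ob, oc, od, oe, og, oh, of⟩ := ok
  have d0 := vd 0; have d1 := vd 1; have d2 := vd 2; have d3 := vd 3; have d4 := vd 4
  have t0 := vt 0; have t1 := vt 1; have t2 := vt 2; have t3 := vt 3; have t4 := vt 4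
  have u0 := vu 0; have u1 := vu 1; have u2 := vu 2; have u3 := vu 3; have u4 := vu 4
  simp [ea, eb, ec, ed, ee, eg, eh, ef] at d0 d1 d2 d3 d4 t0 t1 t2 t3 t4 u0 u1 u2 u3 u4
  have ha := oa.cong_d; have hc := oc.cong_d; have hd := od.cong_d
  have hta := oa.cong_t; have htc := oc.cong_t; have htd := od.cong_t
  have hua := oa.cong_u; have huc := oc.cong_u; have hud := od.cong_u
  simp [ea, ec, ed, E10, E01, E11, E12, E21] at ha hc hd hta htc htd hua huc hud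
  obtain ⟨ρa, qa, ma⟩ := ratio (x := a.t) oa.d_ne
  obtain ⟨ρb, qb, mb⟩ := ratio (x := b.t) ob.d_ne
  obtain ⟨ρe, qe, me⟩ := ratio (x := e.t) oe.d_ne
  obtain ⟨ρf, qf, mf⟩ := ratio (x := f.t) of.d_ne
  obtain ⟨ρg, qg, mg⟩ := ratio (x := g.t) og.d_ne
  obtain ⟨ρh, qh, mh⟩ := ratio (x := h.t) oh.d_ne
  obtain ⟨ρc, qc, mc⟩ := ratio (x := c.t) oc.d_ne
  obtain ⟨ρd, qd, md⟩ := ratio (x := d.t) od.d_ne
  obtain ⟨σa, ra, na⟩ := ratio (x := a.u) oa.d_ne
  obtain ⟨σb, rb, nb⟩ := ratio (x := b.u) ob.d_ne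
  obtain ⟨σc, rc, nc⟩ := ratio (x := c.u) oc.d_ne
  obtain ⟨σd, rd, nd⟩ := ratio (x := d.u) od.d_ne
  obtain ⟨σe, re, ne⟩ := ratio (x := e.u) oe.d_ne
  obtain ⟨σf, rf, nf⟩ := ratio (x := f.u) of.d_ne
  obtain ⟨σg, rg, ng⟩ := ratio (x := g.u) og.d_ne
  obtain ⟨σh, rh, nh⟩ := ratio (x := h.u) oh.d_ne
  simp only [prods, List.forall_mem_cons, List.not_mem_nil, false_imp_iff, implies_true,
    and_true] at et eu
  obtain ⟨A1, A2, -⟩ := et
  obtain ⟨B1, -, B3⟩ := eu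
  simp [ea, eb, ec, ed, ee, eg, eh, ef, E10, E01, E11, E12, E21, mul_div_assoc, neg_div,
    qa, qb, qc, qd, qe, qf, qg, qh, ra, rb, rc, rd, re, rf, rg, rh] at A1 A2 B1 B3
  have rA : ρb + ρe = 2 * ρf := by linarith only [A1, A2]
  have rB : σg + σh = 2 * σf := by linarith only [B1, B3]
  -- the first equation at `t`: `q + r = 1 + p`
  have D0 : (b.d : ℚ) = -(1 + a.d) := by
    have : b.d = -(1 + a.d) := by omega
    exact_mod_cast this
  have D1 : (e.d : ℚ) = -(c.d + d.d) := by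
    have : e.d = -(c.d + d.d) := by omega
    exact_mod_cast this
  have D2 : (f.d : ℚ) = -(1 + a.d + c.d + d.d) := by
    have : f.d = -(1 + a.d + c.d + d.d) := by omega
    exact_mod_cast this
  have D3 : (g.d : ℚ) = 1 + c.d := by
    have : g.d = 1 + c.d := by omega
    exact_mod_cast this
  have D4 : (h.d : ℚ) = a.d + d.d := by
    have : h.d = a.d + d.d := by omega
    exact_mod_cast this
  obtain ⟨T0, T1, T2⟩ : b.t - b.d = -(a.t - a.d) ∧ e.t - e.d = -((c.t - c.d) + (d.t - d.d)) ∧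
      f.t - f.d = -((a.t - a.d) + (c.t - c.d) + (d.t - d.d)) := ⟨by omega, by omega, by omega⟩
  have hA : (((a.t - a.d) * (c.d + d.d) - (c.t - c.d + (d.t - d.d)) * (1 + a.d)) *
      (c.d + d.d - (1 + a.d)) : ℤ) = 0 := by
    have T0' : (b.t : ℚ) - b.d = -((a.t : ℚ) - a.d) := by exact_mod_cast T0
    have T1' : (e.t : ℚ) - e.d = -(((c.t : ℚ) - c.d) + ((d.t : ℚ) - d.d)) := by exact_mod_cast T1
    have T2' : (f.t : ℚ) - f.d = -(((a.t : ℚ) - a.d) + ((c.t : ℚ) - c.d) + ((d.t : ℚ) - d.d)) := by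
      exact_mod_cast T2
    rw [mb, D0] at T0'
    rw [me, D1] at T1'
    rw [mf, D2] at T2'
    have : ((((a.t : ℚ) - a.d) * (c.d + d.d) - ((c.t : ℚ) - c.d + ((d.t : ℚ) - d.d)) * (1 + a.d)) *
      ((c.d : ℚ) + d.d - (1 + a.d))) = 0 := by
      linear_combination ((1 + (a.d : ℚ)) * (c.d + d.d) * (1 + a.d + c.d + d.d)) * rA
        + ((c.d : ℚ) + d.d) * (1 + a.d + c.d + d.d) * T0'
        + (1 + (a.d : ℚ)) * (1 + a.d + c.d + d.d) * T1'
        - 2 * (1 + (a.d : ℚ)) * (c.d + d.d) * T2'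
    exact_mod_cast this
  have hq : c.d + d.d = 1 + a.d := by
    rcases mul_eq_zero.1 hA with h1 | h1
    · exfalso
      obtain ⟨x, hx⟩ : ∃ x, a.t - a.d = 3 * x + 2 * 0 := ⟨(a.t - a.d) / 3, by omega⟩
      obtain ⟨y, hy⟩ : ∃ y, c.t - c.d + (d.t - d.d) = 3 * y + 2 :=
        ⟨(c.t - c.d + (d.t - d.d)) / 3, by omega⟩
      obtain ⟨z, hz⟩ : ∃ z, 1 + a.d = 3 * z + 2 := ⟨(1 + a.d) / 3, by omega⟩
      rw [hx, hy, hz] at h1
      ring_nf at h1
      omega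
    · omega
  obtain ⟨U0, U1, U2⟩ : g.u - g.d = (c.u - c.d) ∧ h.u - h.d = (a.u - a.d) + (d.u - d.d) ∧
      f.u - f.d = -((a.u - a.d) + (c.u - c.d) + (d.u - d.d)) := ⟨by omega, by omega, by omega⟩
  have U0' : (g.u : ℚ) - g.d = (c.u : ℚ) - c.d := by exact_mod_cast U0
  have U1' : (h.u : ℚ) - h.d = ((a.u : ℚ) - a.d) + ((d.u : ℚ) - d.d) := by exact_mod_cast U1
  have U2' : (f.u : ℚ) - f.d = -(((a.u : ℚ) - a.d) + ((c.u : ℚ) - c.d) + ((d.u : ℚ) - d.d)) := by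
    exact_mod_cast U2
  rw [ng, D3] at U0'
  rw [nh, D4] at U1'
  rw [nf, D2] at U2'
  have hB : (((c.u - c.d) * (a.d + d.d) - (a.u - a.d + (d.u - d.d)) * (1 + c.d)) *
      (a.d + d.d - (1 + c.d)) : ℤ) = 0 := by
    have : ((((c.u : ℚ) - c.d) * (a.d + d.d) - ((a.u : ℚ) - a.d + ((d.u : ℚ) - d.d)) * (1 + c.d)) *
      ((a.d : ℚ) + d.d - (1 + c.d))) = 0 := by
      linear_combination ((1 + (c.d : ℚ)) * (a.d + d.d) * (1 + a.d + c.d + d.d)) * rB
        - ((a.d : ℚ) + d.d) * (1 + a.d + c.d + d.d) * U0'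
        - (1 + (c.d : ℚ)) * (1 + a.d + c.d + d.d) * U1'
        - 2 * (1 + (c.d : ℚ)) * (a.d + d.d) * U2'
    exact_mod_cast this
  have hp : a.d + d.d = 1 + c.d := by
    rcases mul_eq_zero.1 hB with h1 | h1
    · exfalso
      obtain ⟨x, hx⟩ : ∃ x, c.u - c.d = 3 * x + 2 * 0 := ⟨(c.u - c.d) / 3, by omega⟩
      obtain ⟨y, hy⟩ : ∃ y, a.u - a.d + (d.u - d.d) = 3 * y + 2 :=
        ⟨(a.u - a.d + (d.u - d.d)) / 3, by omega⟩
      obtain ⟨z, hz⟩ : ∃ z, 1 + c.d = 3 * z + 2 := ⟨(1 + c.d) / 3, by omega⟩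
      rw [hx, hy, hz] at h1
      ring_nf at h1
      omega
    · omega
  have hd1 : d.d = 1 := by omega
  have hca : c.d = a.d := by omega
  -- the third involution
  obtain ⟨w1, w2, w3⟩ := od.lin hd1
  have dt : d.t = -1 := by
    rcases Int.eq_one_or_neg_one_of_mul_eq_one w1 with h | h <;> omega
  have du : d.u = -1 := by
    rcases Int.eq_one_or_neg_one_of_mul_eq_one w2 with h | h <;> omega
  have dv : d.v = 1 := by rw [w3, dt, du]; rfl
  have v0 := vv 0; have v1 := vv 1; have v2 := vv 2; have v3 := vv 3; have v4 := vv 4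
  simp [ea, eb, ec, ed, ee, eg, eh, ef] at v0 v1 v2 v3 v4
  obtain ⟨W0, W1, W2, W3, W4⟩ : b.v = -(1 + a.v) ∧ e.v = -(1 + c.v) ∧ g.v = 1 + c.v ∧ h.v = 1 + a.v ∧
      f.v = -(2 + a.v + c.v) := ⟨by omega, by omega, by omega, by omega, by omega⟩
  obtain ⟨X0, X1, X2, X3, X4⟩ : b.d = -(1 + a.d) ∧ e.d = -(1 + a.d) ∧ g.d = 1 + a.d ∧ h.d = 1 + a.d ∧
      f.d = -(2 * (1 + a.d)) := ⟨by omega, by omega, by omega, by omega, by omega⟩
  have hp0 : (a.d : ℚ) ≠ 0 := Int.cast_ne_zero.2 oa.d_ne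
  have hp1' : (1 + (a.d : ℚ)) ≠ 0 := by
    have : 1 + a.d ≠ 0 := by have := ob.d_ne; omega
    exact_mod_cast this
  simp [ea, eb, ec, ed, ee, eg, eh, ef, E10, E01, W0, W1, W2, W3, W4, X0, X1, X2, X3, X4, dv, hd1, hca] at ev
  have hE : (((a.d - 1) * (2 * a.d - (a.v + c.v))) : ℤ) = 0 := by
    have e2 : -(a.d : ℚ) + -1 ≠ 0 := fun h => hp1' (by linarith only [h])
    have key : 2 + ((a.v : ℚ) + c.v) / a.d - 2 * (2 + (a.v + c.v)) / (1 + a.d) = 0 := by
      refine Eq.trans ?_ ev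
      field_simp
      ring
    field_simp at key
    have : ((a.d : ℚ) - 1) * (2 * a.d - (a.v + c.v)) = 0 := by linear_combination key
    exact_mod_cast this
  have hp1 : a.d = 1 := by
    rcases mul_eq_zero.1 hE with h1 | h1
    · omega
    · have ba := oa.bound; have bc := oc.bound
      have hv : a.v = a.d := by
        rw [hca] at bc
        rw [abs_le] at ba bc
        rcases abs_choice a.d with h0 | h0 <;> rw [h0] at ba bc <;> omega
      have := oa.full hv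
      simp [ea, E10] at this
      omega
  refine ⟨a, by simp, c, by simp, hp1, hca.trans hp1, ?_, ?_, ?_, ?_⟩ <;> omega

theorem case_2 {a b c d e f g : Col}
    (ea : a.c = ![1, 0, 0, 0, 1])
    (eb : b.c = ![1, 0, 0, 0, 0])
    (ec : c.c = ![0, 1, 1, 0, 0])
    (ed : d.c = ![0, 1, -1, 1, 0])
    (ee : e.c = ![0, 1, 0, 0, 1])
    (ef : f.c = ![0, 0, 1, 0, -1])
    (eg : g.c = ![0, 0, 0, 1, 0])
    (H : Global [a, b, c, d, e, f, g]) : False := by
  obtain ⟨ok, vd, -, vu, -, -, eu, -⟩ := H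
  simp only [List.forall_mem_cons, List.not_mem_nil, false_imp_iff, implies_true, and_true] at ok
  obtain ⟨oa, ob, oc, od, oe, of, og⟩ := ok
  have d0 := vd 0; have d1 := vd 1; have d2 := vd 2; have d3 := vd 3; have d4 := vd 4
  have u0 := vu 0; have u1 := vu 1; have u2 := vu 2; have u3 := vu 3; have u4 := vu 4
  simp [ea, eb, ec, ed, ee, ef, eg] at d0 d1 d2 d3 d4 u0 u1 u2 u3 u4
  have hd := od.cong_d
  have hu := od.cong_u
  simp [ed, E10, E01, E11, E21] at hd hu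
  obtain ⟨ρa, qa, ma⟩ := ratio (x := a.u) oa.d_ne
  obtain ⟨ρb, qb, mb⟩ := ratio (x := b.u) ob.d_ne
  obtain ⟨ρc, qc, mc⟩ := ratio (x := c.u) oc.d_ne
  obtain ⟨ρd, qd, md⟩ := ratio (x := d.u) od.d_ne
  obtain ⟨ρe, qe, me⟩ := ratio (x := e.u) oe.d_ne
  obtain ⟨ρf, qf, mf⟩ := ratio (x := f.u) of.d_ne
  obtain ⟨ρg, qg, mg⟩ := ratio (x := g.u) og.d_ne
  simp only [prods, List.forall_mem_cons, List.not_mem_nil, false_imp_iff, implies_true,
    and_true] at eu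
  obtain ⟨A1, A2, A3⟩ := eu
  simp [ea, eb, ec, ed, ee, ef, eg, E10, E01, E11, mul_div_assoc, neg_div,
    qa, qb, qc, qd, qe, qf, qg] at A1 A2 A3
  have hr : ρb = ρd := by linarith only [A1, A2, A3]
  obtain ⟨B1, T1⟩ : b.d = -(1 + 2 * d.d) ∧ b.u - b.d = -2 * (d.u - d.d) := ⟨by omega, by omega⟩
  have B1' : (b.d : ℚ) = -(1 + 2 * d.d) := by exact_mod_cast B1
  have T1' : (b.u : ℚ) - b.d = -2 * ((d.u : ℚ) - d.d) := by exact_mod_cast T1
  rw [mb, B1'] at T1'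
  have : ((d.u - d.d : ℤ) : ℚ) = 0 := by
    push_cast
    linear_combination (1 + 2 * (d.d : ℚ)) * md - (d.d : ℚ) * T1'
      - (d.d : ℚ) * (1 + 2 * d.d) * hr
  have h0 : d.u - d.d = 0 := by exact_mod_cast this
  omega

theorem case_3 {a b c d e f g : Col}
    (ea : a.c = ![1, 0, 0, 0, 1])
    (eb : b.c = ![1, 0, 0, 0, 0])
    (ec : c.c = ![0, 1, 1, 0, 0])
    (ed : d.c = ![0, 1, -1, 0, 1])
    (ee : e.c = ![0, 1, 0, 1, 0])
    (ef : f.c = ![0, 0, 1, -1, 0])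
    (eg : g.c = ![0, 0, 0, 0, 1])
    (H : Global [a, b, c, d, e, f, g]) : False := by
  obtain ⟨ok, vd, vt, -, -, et, -, -⟩ := H
  simp only [List.forall_mem_cons, List.not_mem_nil, false_imp_iff, implies_true, and_true] at ok
  obtain ⟨oa, ob, oc, od, oe, of, og⟩ := ok
  have d0 := vd 0; have d1 := vd 1; have d2 := vd 2; have d3 := vd 3; have d4 := vd 4
  simp [ea, eb, ec, ed, ee, ef, eg] at d0 d1 d2 d3 d4
  have := oa.d_ne; have := ob.d_ne; have := oc.d_ne; have := od.d_ne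
  have := oe.d_ne; have := of.d_ne; have := og.d_ne
  omega

theorem case_4 {a b c d e f g : Col}
    (ea : a.c = ![1, 0, 0, 0, 1])
    (eb : b.c = ![1, 0, 0, 0, 0])
    (ec : c.c = ![0, 1, 1, 0, 0])
    (ed : d.c = ![0, 1, -1, 1, 1])
    (ee : e.c = ![0, 1, 0, 0, 0])
    (ef : f.c = ![0, 0, 1, 0, 0])
    (eg : g.c = ![0, 0, 0, 1, -1])
    (H : Global [a, b, c, d, e, f, g]) : False := by
  obtain ⟨ok, vd, -, vu, -, -, eu, -⟩ := H
  simp only [List.forall_mem_cons, List.not_mem_nil, false_imp_iff, implies_true, and_true] at ok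
  obtain ⟨oa, ob, oc, od, oe, of, og⟩ := ok
  have d0 := vd 0; have d1 := vd 1; have d2 := vd 2; have d3 := vd 3; have d4 := vd 4
  have u0 := vu 0; have u1 := vu 1; have u2 := vu 2; have u3 := vu 3; have u4 := vu 4
  simp [ea, eb, ec, ed, ee, ef, eg] at d0 d1 d2 d3 d4 u0 u1 u2 u3 u4
  have hd := od.cong_d
  have hu := od.cong_u
  simp [ed, E10, E01, E11, E21] at hd hu
  obtain ⟨ρa, qa, ma⟩ := ratio (x := a.u) oa.d_ne
  obtain ⟨ρb, qb, mb⟩ := ratio (x := b.u) ob.d_ne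
  obtain ⟨ρc, qc, mc⟩ := ratio (x := c.u) oc.d_ne
  obtain ⟨ρd, qd, md⟩ := ratio (x := d.u) od.d_ne
  obtain ⟨ρe, qe, me⟩ := ratio (x := e.u) oe.d_ne
  obtain ⟨ρf, qf, mf⟩ := ratio (x := f.u) of.d_ne
  obtain ⟨ρg, qg, mg⟩ := ratio (x := g.u) og.d_ne
  simp only [prods, List.forall_mem_cons, List.not_mem_nil, false_imp_iff, implies_true,
    and_true] at eu
  obtain ⟨A1, A2, A3⟩ := eu
  simp [ea, eb, ec, ed, ee, ef, eg, E10, E01, E11, mul_div_assoc, neg_div,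
    qa, qb, qc, qd, qe, qf, qg] at A1 A2 A3
  have hr : ρa = 2 * ρd := by linarith only [A1, A2, A3]
  obtain ⟨B1, T1⟩ : a.d = -(1 + 2 * d.d) ∧ a.u - a.d = -2 * (d.u - d.d) := ⟨by omega, by omega⟩
  have B1' : (a.d : ℚ) = -(1 + 2 * d.d) := by exact_mod_cast B1
  have T1' : (a.u : ℚ) - a.d = -2 * ((d.u : ℚ) - d.d) := by exact_mod_cast T1
  rw [ma, B1'] at T1'
  have : (((d.u - d.d) * (1 + d.d) : ℤ) : ℚ) = 0 := by
    push_cast
    linear_combination (1 + 2 * (d.d : ℚ)) * md - (d.d : ℚ) / 2 * T1'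
      - (d.d : ℚ) * (1 + 2 * d.d) / 2 * hr
  have h0 : (d.u - d.d) * (1 + d.d) = 0 := by exact_mod_cast this
  rcases mul_eq_zero.1 h0 with h | h
  · omega
  · exact og.d_ne (by omega)

theorem case_1 {a b c d e f g : Col}
    (ea : a.c = ![1, 0, 1, 0, 0])
    (eb : b.c = ![1, 0, -1, 0, 1])
    (ec : c.c = ![0, 1, 0, 1, 0])
    (ed : d.c = ![0, 1, 0, 0, 1])
    (ee : e.c = ![0, 1, 0, 0, 0])
    (ef : f.c = ![0, 0, 1, -1, 0])
    (eg : g.c = ![0, 0, 0, 0, 1])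
    (H : Global [a, b, c, d, e, f, g]) : False := by
  obtain ⟨ok, vd, vt, -, -, et, -, -⟩ := H
  simp only [List.forall_mem_cons, List.not_mem_nil, false_imp_iff, implies_true, and_true] at ok
  obtain ⟨oa, ob, oc, od, oe, of, og⟩ := ok
  have d0 := vd 0; have d1 := vd 1; have d2 := vd 2; have d3 := vd 3; have d4 := vd 4
  have t0 := vt 0; have t1 := vt 1; have t2 := vt 2; have t3 := vt 3; have t4 := vt 4
  simp [ea, eb, ec, ed, ee, ef, eg] at d0 d1 d2 d3 d4 t0 t1 t2 t3 t4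
  have hd := oa.cong_d
  have ht := oa.cong_t
  simp [ea, E10, E01, E11, E12] at hd ht
  obtain ⟨ρa, qa, ma⟩ := ratio (x := a.t) oa.d_ne
  obtain ⟨ρb, qb, mb⟩ := ratio (x := b.t) ob.d_ne
  obtain ⟨ρc, qc, mc⟩ := ratio (x := c.t) oc.d_ne
  obtain ⟨ρd, qd, md⟩ := ratio (x := d.t) od.d_ne
  obtain ⟨ρe, qe, me⟩ := ratio (x := e.t) oe.d_ne
  obtain ⟨ρf, qf, mf⟩ := ratio (x := f.t) of.d_ne
  obtain ⟨ρg, qg, mg⟩ := ratio (x := g.t) og.d_ne
  simp only [prods, List.forall_mem_cons, List.not_mem_nil, false_imp_iff, implies_true,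
    and_true] at et
  obtain ⟨A1, A2, A3⟩ := et
  simp [ea, eb, ec, ed, ee, ef, eg, E10, E01, E11, mul_div_assoc, neg_div,
    qa, qb, qc, qd, qe, qf, qg] at A1 A2 A3
  have hr : ρb = ρf := by linarith only [A1, A2, A3]
  obtain ⟨B0, B1, T0, T1⟩ : b.d = -(1 + a.d) ∧ f.d = -(1 + 2 * a.d) ∧
      b.t - b.d = -(a.t - a.d) ∧ f.t - f.d = -2 * (a.t - a.d) :=
    ⟨by omega, by omega, by omega, by omega⟩
  have B0' : (b.d : ℚ) = -(1 + a.d) := by exact_mod_cast B0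
  have B1' : (f.d : ℚ) = -(1 + 2 * a.d) := by exact_mod_cast B1
  have T0' : (b.t : ℚ) - b.d = -((a.t : ℚ) - a.d) := by exact_mod_cast T0
  have T1' : (f.t : ℚ) - f.d = -2 * ((a.t : ℚ) - a.d) := by exact_mod_cast T1
  rw [mb, B0'] at T0'
  rw [mf, B1'] at T1'
  have : ((a.t - a.d : ℤ) : ℚ) = 0 := by
    push_cast
    linear_combination -(1 + 2 * (a.d : ℚ)) * T0' + (1 + (a.d : ℚ)) * T1'
      - (1 + (a.d : ℚ)) * (1 + 2 * a.d) * hr
  have h0 : a.t - a.d = 0 := by exact_mod_cast this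
  omega

theorem case_6 {a b c d e f g : Col}
    (ea : a.c = ![1, 1, 0, 0, 1])
    (eb : b.c = ![1, -1, 0, 0, 0])
    (ec : c.c = ![0, 1, 0, 1, 0])
    (ed : d.c = ![0, 0, 1, -1, 0])
    (ee : e.c = ![0, 0, 1, 0, -1])
    (ef : f.c = ![0, 0, 1, 0, 0])
    (eg : g.c = ![0, 0, 0, 0, 1])
    (H : Global [a, b, c, d, e, f, g]) : False := by
  obtain ⟨ok, vd, vt, -, -, et, -, -⟩ := H
  simp only [List.forall_mem_cons, List.not_mem_nil, false_imp_iff, implies_true, and_true] at ok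
  obtain ⟨oa, ob, oc, od, oe, of, og⟩ := ok
  have d0 := vd 0; have d1 := vd 1; have d2 := vd 2; have d3 := vd 3; have d4 := vd 4
  have t0 := vt 0; have t1 := vt 1; have t2 := vt 2; have t3 := vt 3; have t4 := vt 4
  simp [ea, eb, ec, ed, ee, ef, eg] at d0 d1 d2 d3 d4 t0 t1 t2 t3 t4
  have hd := oa.cong_d
  have ht := oa.cong_t
  simp [ea, E10, E01, E11, E12] at hd ht
  obtain ⟨ρa, qa, ma⟩ := ratio (x := a.t) oa.d_ne
  obtain ⟨ρb, qb, mb⟩ := ratio (x := b.t) ob.d_ne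
  obtain ⟨ρc, qc, mc⟩ := ratio (x := c.t) oc.d_ne
  obtain ⟨ρd, qd, md⟩ := ratio (x := d.t) od.d_ne
  obtain ⟨ρe, qe, me⟩ := ratio (x := e.t) oe.d_ne
  obtain ⟨ρf, qf, mf⟩ := ratio (x := f.t) of.d_ne
  obtain ⟨ρg, qg, mg⟩ := ratio (x := g.t) og.d_ne
  simp only [prods, List.forall_mem_cons, List.not_mem_nil, false_imp_iff, implies_true,
    and_true] at et
  obtain ⟨A1, A2, A3⟩ := et
  simp [ea, eb, ec, ed, ee, ef, eg, E10, E01, E11, mul_div_assoc, neg_div,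
    qa, qb, qc, qd, qe, qf, qg] at A1 A2 A3
  have hr : ρc = 2 * ρa := by linarith only [A1, A2, A3]
  obtain ⟨B1, T1⟩ : c.d = -(1 + 2 * a.d) ∧ c.t - c.d = -2 * (a.t - a.d) := ⟨by omega, by omega⟩
  have B1' : (c.d : ℚ) = -(1 + 2 * a.d) := by exact_mod_cast B1
  have T1' : (c.t : ℚ) - c.d = -2 * ((a.t : ℚ) - a.d) := by exact_mod_cast T1
  rw [mc, B1'] at T1'
  have : (((a.t - a.d) * (1 + a.d) : ℤ) : ℚ) = 0 := by
    push_cast
    linear_combination (1 + 2 * (a.d : ℚ)) * ma - (a.d : ℚ) / 2 * T1'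
      - (a.d : ℚ) * (1 + 2 * a.d) / 2 * hr
  have h0 : (a.t - a.d) * (1 + a.d) = 0 := by exact_mod_cast this
  rcases mul_eq_zero.1 h0 with h | h
  · omega
  · exact ob.d_ne (by omega)

/-- The list of columns of a configuration gives the two linear characters. -/
theorem found_of_global {l : List Col} (hl : l.map Col.c ∈ configs) (H : Global l) : Found l := by
  simp only [configs, List.mem_cons, List.not_mem_nil, or_false] at hl
  rcases hl with hl | hl | hl | hl | hl | hl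
  · simp only [List.map_eq_cons_iff, List.map_eq_nil_iff] at hl
    obtain ⟨a, l0, rfl, ea, ⟨b, l1, rfl, eb, ⟨c, l2, rfl, ec, ⟨d, l3, rfl, ed, ⟨e, l4, rfl, ee, ⟨f, l5, rfl, ef, ⟨g, l6, rfl, eg, rfl⟩⟩⟩⟩⟩⟩⟩ := hl
    exact (case_1 ea eb ec ed ee ef eg H).elim
  · simp only [List.map_eq_cons_iff, List.map_eq_nil_iff] at hl
    obtain ⟨a, l0, rfl, ea, ⟨b, l1, rfl, eb, ⟨c, l2, rfl, ec, ⟨d, l3, rfl, ed, ⟨e, l4, rfl, ee, ⟨f, l5, rfl, ef, ⟨g, l6, rfl, eg, rfl⟩⟩⟩⟩⟩⟩⟩ := hl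
    exact (case_2 ea eb ec ed ee ef eg H).elim
  · simp only [List.map_eq_cons_iff, List.map_eq_nil_iff] at hl
    obtain ⟨a, l0, rfl, ea, ⟨b, l1, rfl, eb, ⟨c, l2, rfl, ec, ⟨d, l3, rfl, ed, ⟨e, l4, rfl, ee, ⟨f, l5, rfl, ef, ⟨g, l6, rfl, eg, rfl⟩⟩⟩⟩⟩⟩⟩ := hl
    exact (case_3 ea eb ec ed ee ef eg H).elim
  · simp only [List.map_eq_cons_iff, List.map_eq_nil_iff] at hl
    obtain ⟨a, l0, rfl, ea, ⟨b, l1, rfl, eb, ⟨c, l2, rfl, ec, ⟨d, l3, rfl, ed, ⟨e, l4, rfl, ee, ⟨f, l5, rfl, ef, ⟨g, l6, rfl, eg, rfl⟩⟩⟩⟩⟩⟩⟩ := hl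
    exact (case_4 ea eb ec ed ee ef eg H).elim
  · simp only [List.map_eq_cons_iff, List.map_eq_nil_iff] at hl
    obtain ⟨a, l0, rfl, ea, ⟨b, l1, rfl, eb, ⟨c, l2, rfl, ec, ⟨d, l3, rfl, ed, ⟨e, l4, rfl, ee, ⟨g, l5, rfl, eg, ⟨h, l6, rfl, eh, ⟨f, l7, rfl, ef, rfl⟩⟩⟩⟩⟩⟩⟩⟩ := hl
    exact case_grid ea eb ec ed ee eg eh ef H
  · simp only [List.map_eq_cons_iff, List.map_eq_nil_iff] at hl
    obtain ⟨a, l0, rfl, ea, ⟨b, l1, rfl, eb, ⟨c, l2, rfl, ec, ⟨d, l3, rfl, ed, ⟨e, l4, rfl, ee, ⟨f, l5, rfl, ef, ⟨g, l6, rfl, eg, rfl⟩⟩⟩⟩⟩⟩⟩ := hl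
    exact (case_6 ea eb ec ed ee ef eg H).elim

open scoped Classical in
/-- Two linear characters with the two sign patterns. -/
theorem exists_linear (Y : Sys I) : ∃ A B : I, Y.d A = 1 ∧ Y.d B = 1 ∧
    3 ∣ Y.t A - 1 ∧ 3 ∣ Y.u A + 1 ∧ 3 ∣ Y.t B + 1 ∧ 3 ∣ Y.u B - 1 := by
  set sg : I → ℤ := fun i => if normed (Y.κ i) then 1 else -1 with hsg
  set κ' : I → Fin 5 → ℤ := fun i k => sg i * Y.κ i k with hκ'
  set S : Finset I := Finset.univ.filter fun i => i ≠ Y.o ∧ Y.κ i ≠ 0 with hS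
  have hsq : ∀ i, sg i * sg i = 1 := fun i => by
    rw [hsg]; by_cases h : normed (Y.κ i) <;> simp [h]
  have hsum : ∀ {R : Type} [AddCommMonoid R] (F : I → R), (∀ i, Y.κ i = 0 → F i = 0) →
      ∑ i, F i = F Y.o + ∑ i ∈ S, F i := by
    intro R _ F hF
    rw [← Finset.add_sum_erase _ _ (Finset.mem_univ Y.o)]
    congr 1
    refine (Finset.sum_subset (fun i hi => ?_) fun i hi hn => hF i ?_).symm
    · exact Finset.mem_erase.2 ⟨(Finset.mem_filter.1 hi).2.1, Finset.mem_univ _⟩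
    · by_contra h
      exact hn (Finset.mem_filter.2 ⟨Finset.mem_univ _, (Finset.mem_erase.1 hi).1, h⟩)
  have hgram : ∀ k l, gram k l = ∑ i ∈ S, κ' i k * κ' i l := by
    intro k l
    have h := Y.orth k l
    rw [hsum (fun i => Y.κ i k * Y.κ i l) fun i hi => by simp [hi]] at h
    have e : ∑ i ∈ S, κ' i k * κ' i l = ∑ i ∈ S, Y.κ i k * Y.κ i l :=
      Finset.sum_congr rfl fun i _ => by
        rw [hκ', show sg i * Y.κ i k * (sg i * Y.κ i l) = sg i * sg i * (Y.κ i k * Y.κ i l) by ring,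
          hsq, one_mul]
    omega
  have hdiag : ∀ k, gram k k ≤ 3 := by decide
  have hvecs : ∀ i ∈ S, κ' i ∈ vecs 5 := by
    intro i hi
    have hent : ∀ k, Y.κ i k = 0 ∨ Y.κ i k = 1 ∨ Y.κ i k = -1 := by
      intro k
      have h1 : κ' i k * κ' i k ≤ gram k k :=
        hgram k k ▸ Finset.single_le_sum (f := fun j => κ' j k * κ' j k)
          (fun j _ => mul_self_nonneg _) hi
      have h2 : Y.κ i k * Y.κ i k ≤ 3 := by
        have e : κ' i k * κ' i k = Y.κ i k * Y.κ i k := by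
          rw [hκ', show sg i * Y.κ i k * (sg i * Y.κ i k) = sg i * sg i * (Y.κ i k * Y.κ i k) by ring,
            hsq, one_mul]
        have := hdiag k
        omega
      have h3 : -2 < Y.κ i k ∧ Y.κ i k < 2 := ⟨by nlinarith, by nlinarith⟩
      omega
    have hneg : ∀ c ∈ allVecs 5, c ≠ 0 → normed c = false → normed (fun k => (-1) * c k) = true := by
      decide +kernel
    refine List.mem_filter.2 ⟨mem_allVecs 5 _ fun k => ?_, ?_⟩
    · rw [hκ', hsg]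
      by_cases h : normed (Y.κ i) <;> rcases hent k with e | e | e <;> simp [h, e]
    · rw [hκ', hsg]
      by_cases h : normed (Y.κ i)
      · simpa [h] using h
      · have := hneg _ (mem_allVecs 5 _ hent) (Finset.mem_filter.1 hi).2.2 (by simpa using h)
        simpa [h] using this
  have hcard : S.card ≤ 15 := by
    have h1 : ∀ i ∈ S, (1 : ℤ) ≤ ∑ k, κ' i k * κ' i k := by
      intro i hi
      obtain ⟨k, hk⟩ : ∃ k, Y.κ i k ≠ 0 := by
        by_contra h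
        push Not at h
        exact (Finset.mem_filter.1 hi).2.2 (funext h)
      have : κ' i k ≠ 0 := mul_ne_zero (fun h0 => by simpa [h0] using hsq i) hk
      exact le_trans (by nlinarith [mul_self_pos.2 this])
        (Finset.single_le_sum (f := fun k => κ' i k * κ' i k) (fun _ _ => mul_self_nonneg _)
          (Finset.mem_univ k))
    have h2 := Finset.sum_le_sum h1
    rw [Finset.sum_comm, Finset.sum_const, nsmul_eq_mul, mul_one] at h2
    simp only [← hgram] at h2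
    have h3 : ∑ k, gram k k ≤ 15 := by decide
    omega
  obtain ⟨L, hL, hmap⟩ := search_sound keyOK_five κ' 15 gram (3 ^ 5) S hvecs hgram
    (fun i hi => key_le _ (hvecs i hi)) hcard
  rw [search_gram] at hL
  obtain ⟨m, hm, hmem, hmκ⟩ := exists_list S κ' L hmap
  have hSm : ∀ {R : Type} [AddCommMonoid R] (F : I → R), ∑ i ∈ S, F i = (m.map F).sum := by
    intro R _ F
    rw [← List.sum_toFinset _ hm]
    exact Finset.sum_congr (Finset.ext fun i => by rw [List.mem_toFinset, hmem]) fun _ _ => rfl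
  set col : I → Col := fun i => ⟨κ' i, sg i * Y.d i, sg i * Y.t i, sg i * Y.u i, sg i * Y.v i⟩ with hcol
  have hval : ∀ (y : I → ℤ) i k, κ' i k * (sg i * y i) = Y.κ i k * y i := fun y i k => by
    rw [hκ', show sg i * Y.κ i k * (sg i * y i) = sg i * sg i * (Y.κ i k * y i) by ring, hsq, one_mul]
  have hscale : ∀ (s : ℤ) (c : Fin 5 → ℤ), E10 (fun k => s * c k) = s * E10 c ∧
      E01 (fun k => s * c k) = s * E01 c ∧ E11 (fun k => s * c k) = s * E11 c ∧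
      E12 (fun k => s * c k) = s * E12 c ∧ E21 (fun k => s * c k) = s * E21 c := fun s c => by
    simp only [E10, E01, E11, E12, E21]; refine ⟨?_, ?_, ?_, ?_, ?_⟩ <;> ring
  have hP : ∀ P ∈ prods, ∀ i, P (κ' i) = P (Y.κ i) ∧ (Y.κ i = 0 → P (Y.κ i) = 0) := by
    intro P hP i
    obtain ⟨s1, s2, s3, s4, s5⟩ := hscale (sg i) (Y.κ i)
    simp only [prods, List.mem_cons, List.not_mem_nil, or_false] at hP
    have hz : Y.κ i = 0 → E10 (Y.κ i) = 0 ∧ E01 (Y.κ i) = 0 := fun h => by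
      simp [h, E10, E01]
    rcases hP with rfl | rfl | rfl <;>
      refine ⟨?_, fun h => by simp [hz h]⟩ <;>
      simp only [hκ', s1, s2, s3, s4, s5] <;>
      rw [mul_mul_mul_comm, hsq, one_mul]
  have hG : Global (m.map col) := by
    refine ⟨fun C hC => ?_, fun k => ?_, fun k => ?_, fun k => ?_, fun k => ?_, fun P hP' => ?_,
      fun P hP' => ?_, ?_⟩
    · obtain ⟨i, -, rfl⟩ := List.mem_map.1 hC
      obtain ⟨s1, s2, s3, s4, s5⟩ := hscale (sg i) (Y.κ i)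
      refine ⟨mul_ne_zero (fun h0 => by simpa [h0] using hsq i) (Y.d_pos i).ne', ?_, ?_, ?_, ?_, ?_, ?_⟩
      · show (3 : ℤ) ∣ sg i * Y.t i - E12 (κ' i)
        rw [hκ', s4, ← mul_sub]; exact dvd_mul_of_dvd_right (Y.cong_t i) _
      · show (3 : ℤ) ∣ sg i * Y.u i - E21 (κ' i)
        rw [hκ', s5, ← mul_sub]; exact dvd_mul_of_dvd_right (Y.cong_u i) _
      · show (9 : ℤ) ∣ sg i * Y.d i + 2 * E10 (κ' i) + 2 * E01 (κ' i) + 4 * E11 (κ' i)
        rw [hκ', s1, s2, s3, show sg i * Y.d i + 2 * (sg i * E10 (Y.κ i)) + 2 * (sg i * E01 (Y.κ i))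
          + 4 * (sg i * E11 (Y.κ i)) =
          sg i * (Y.d i + 2 * E10 (Y.κ i) + 2 * E01 (Y.κ i) + 4 * E11 (Y.κ i)) by ring]
        exact dvd_mul_of_dvd_right (Y.cong_d i) _
      · have hab : |sg i| = 1 := by rcases Int.eq_one_or_neg_one_of_mul_eq_one (hsq i) with h | h <;> simp [h]
        show |sg i * Y.v i| ≤ |sg i * Y.d i|
        rw [abs_mul, abs_mul, hab, one_mul, one_mul]
        exact (Y.bound i).trans (le_abs_self _)
      · intro h0
        show E10 (κ' i) = sg i * Y.d i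
        rw [hκ', s1, Y.full i (mul_left_cancel₀ (fun e0 => by simpa [e0] using hsq i) h0)]
      · intro h0
        have hk' : sg i * Y.d i = 1 := h0
        have := Y.d_pos i
        have hs : sg i = 1 := by
          rcases Int.eq_one_or_neg_one_of_mul_eq_one hk' with e | e <;> rw [e] at hk' <;> omega
        show sg i * Y.t i * (sg i * Y.t i) = 1 ∧ sg i * Y.u i * (sg i * Y.u i) = 1 ∧
          sg i * Y.v i = sg i * Y.t i * (sg i * Y.u i)
        rw [hs, one_mul] at hk'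
        simpa [hs] using Y.lin i hk'
    · have h := Y.van_d k
      rw [hsum _ fun i hi => by simp [hi], hSm, Y.κ_o, Y.d_o, mul_one] at h
      refine Eq.trans ?_ h
      rw [List.map_map]
      exact congrArg (fun l => _ + List.sum l) (List.map_congr_left fun i _ => hval Y.d i k)
    · have h := Y.van_t k
      rw [hsum _ fun i hi => by simp [hi], hSm, Y.κ_o, Y.t_o, mul_one] at h
      refine Eq.trans ?_ h
      rw [List.map_map]
      exact congrArg (fun l => _ + List.sum l) (List.map_congr_left fun i _ => hval Y.t i k)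
    · have h := Y.van_u k
      rw [hsum _ fun i hi => by simp [hi], hSm, Y.κ_o, Y.u_o, mul_one] at h
      refine Eq.trans ?_ h
      rw [List.map_map]
      exact congrArg (fun l => _ + List.sum l) (List.map_congr_left fun i _ => hval Y.u i k)
    · have h := Y.van_v k
      rw [hsum _ fun i hi => by simp [hi], hSm, Y.κ_o, Y.v_o, mul_one] at h
      refine Eq.trans ?_ h
      rw [List.map_map]
      exact congrArg (fun l => _ + List.sum l) (List.map_congr_left fun i _ => hval Y.v i k)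
    · have h := Y.eq_t P hP'
      rw [hsum _ fun i hi => by simp [(hP P hP' i).2 hi], hSm, Y.κ_o, Y.t_o, Y.d_o] at h
      simp only [mul_one, Int.cast_one, div_one] at h
      refine Eq.trans ?_ h
      rw [List.map_map]
      refine congrArg (fun l => _ + List.sum l) (List.map_congr_left fun i _ => ?_)
      show ((P (κ' i) * (sg i * Y.t i) : ℤ) : ℚ) / ((sg i * Y.d i : ℤ) : ℚ) = _
      have hne : sg i ≠ 0 := fun h0 => by simpa [h0] using hsq i
      have : (sg i : ℚ) ≠ 0 := by exact_mod_cast hne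
      rw [(hP P hP' i).1]
      push_cast
      rw [mul_left_comm, mul_div_mul_left _ _ this]
    · have h := Y.eq_u P hP'
      rw [hsum _ fun i hi => by simp [(hP P hP' i).2 hi], hSm, Y.κ_o, Y.u_o, Y.d_o] at h
      simp only [mul_one, Int.cast_one, div_one] at h
      refine Eq.trans ?_ h
      rw [List.map_map]
      refine congrArg (fun l => _ + List.sum l) (List.map_congr_left fun i _ => ?_)
      show ((P (κ' i) * (sg i * Y.u i) : ℤ) : ℚ) / ((sg i * Y.d i : ℤ) : ℚ) = _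
      have hne : sg i ≠ 0 := fun h0 => by simpa [h0] using hsq i
      have : (sg i : ℚ) ≠ 0 := by exact_mod_cast hne
      rw [(hP P hP' i).1]
      push_cast
      rw [mul_left_comm, mul_div_mul_left _ _ this]
    · have hP' : (fun c => E10 c * E01 c) ∈ prods := by simp [prods]
      have h := Y.eq_v
      rw [hsum _ fun i hi => by simp [hi, E10, E01], hSm, Y.κ_o, Y.v_o, Y.d_o] at h
      simp only [mul_one, Int.cast_one, div_one] at h
      refine Eq.trans ?_ h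
      rw [List.map_map]
      refine congrArg₂ (· + List.sum ·) (by simp [E10, E01]) (List.map_congr_left fun i _ => ?_)
      show ((E10 (κ' i) * E01 (κ' i) * (sg i * Y.v i) : ℤ) : ℚ) / ((sg i * Y.d i : ℤ) : ℚ) = _
      have hne : sg i ≠ 0 := fun h0 => by simpa [h0] using hsq i
      have : (sg i : ℚ) ≠ 0 := by exact_mod_cast hne
      rw [show E10 (κ' i) * E01 (κ' i) = E10 (Y.κ i) * E01 (Y.κ i) from (hP _ hP' i).1]
      push_cast
      rw [mul_left_comm, mul_div_mul_left _ _ this]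
  have hLc : (m.map col).map Col.c = L := by rw [List.map_map]; exact hmκ
  obtain ⟨A, hA, B, hB, hdA, hdB, h1, h2, h3, h4⟩ := found_of_global (hLc ▸ hL) hG
  obtain ⟨i, -, rfl⟩ := List.mem_map.1 hA
  obtain ⟨j, -, rfl⟩ := List.mem_map.1 hB
  have key : ∀ k : I, (col k).d = 1 → sg k = 1 ∧ Y.d k = 1 := by
    intro k hk
    have hk' : sg k * Y.d k = 1 := hk
    have := Y.d_pos k
    rcases Int.eq_one_or_neg_one_of_mul_eq_one hk' with e | e <;> rw [e] at hk' <;>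
      constructor <;> omega
  obtain ⟨si, di⟩ := key i hdA
  obtain ⟨sj, dj⟩ := key j hdB
  simp only [hcol, si, sj, one_mul] at h1 h2 h3 h4
  exact ⟨i, j, di, dj, h1, h2, h3, h4⟩

end Cfsg.Agent.Co2Three.Grid.Alg
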