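import Cfsg.Agent.Lib.Co2Three.Grid.Local
import Cfsg.Agent.Lib.Co2Three.Grid.Alg
import Cfsg.Agent.Lib.Char.PermChar
import Cfsg.Agent.Lib.Char.GlaubermanMod

/-!
A Sylow subgroup of order nine with normaliser `S₃ × S₃` and cores in the centralisers: two linear characters
separate the four cosets of the Sylow subgroup in its normaliser.
-/

set_option autoImplicit false
set_option maxRecDepth 20000
set_option linter.style.haveILetI false
set_option linter.unusedSectionVars false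

namespace Cfsg.Agent.Co2Three.Grid

open Cfsg Cfsg.Agent.Char Cfsg.Agent.Blocks Cfsg.Agent.LocalTI
open Cfsg.Agent.ThreeTI.Grid hiding prods Sys exists_linear
open Cfsg.Agent.GridBlock (tp up tp_spec six_all cube_cube cube_conj cube_self regular_mul cl vT vU vals cong9 tp_vals cosets)
open scoped ComplexConjugate

universe u

variable {G : Type u} [Group G] [Fintype G] (ι : Mod →* G)

/-- The value at the third involution `(s, s)`. -/
noncomputable def vV (χ : IrrCharacter G) : ℤ := coef (fn_true good_minus good_minus) ι χ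

theorem val_V (χ : IrrCharacter G) : value ι χ 2 2 = vV ι χ := by
  have h := coef_fn (fn_true good_minus good_minus) ι χ
  simp [Fin.sum_univ_three, size3] at h
  rw [vV]
  linear_combination (-1/36 : ℂ) * h

/-- The values of a linear character multiply. -/
theorem lin_value (χ : IrrCharacter G) (hd : deg χ = 1) : vV ι χ = vT ι χ * vU ι χ := by
  have h1 : (χ : G → ℂ) 1 = 1 := by
    rw [CharX.irr_deg χ, show Cfsg.charDegree (χ : G → ℂ) = 1 by simp only [deg] at hd; omega,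
      Nat.cast_one]
  obtain ⟨f, hf⟩ := exists_hom_of_degree_one (IsIrrCharacter.isCharacter χ.2) h1
  have hv := val_V ι χ
  obtain ⟨-, -, -, -, -, hT, hU⟩ := vals ι χ
  simp only [value, hf] at hv hT hU
  rw [show rep (2, 2) = rep (0, 2) * rep (2, 0) by decide +kernel, map_mul, map_mul, Units.val_mul,
    hT, hU] at hv
  exact_mod_cast hv.symm

theorem invol_v : rep (2, 2) * rep (2, 2) = 1 := by decide +kernel

/-- An involution whose value is the degree acts trivially. -/
theorem deg_of_full (χ : IrrCharacter G) (h : vV ι χ = deg χ) : E10 (cl ι χ) = deg χ := by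
  obtain ⟨N, hN, hker, -⟩ := IsCharacter.exists_kernel (IsIrrCharacter.isCharacter χ.2)
  have hd : (χ : G → ℂ) 1 = (deg χ : ℂ) := by
    rw [← value_degree (ι := ι) χ]; simp [value, show rep (0, 0) = 1 from rfl]
  have hv : ι (rep (2, 2)) ∈ N := (hker _).2 (by
    rw [show (χ : G → ℂ) (ι (rep (2, 2))) = _ from val_V ι χ, h, hd])
  have hc' : ι (rep (1, 0) * rep (2, 2) * (rep (1, 0))⁻¹ * (rep (2, 2))⁻¹) ∈ N := by
    rw [map_mul, map_mul, map_mul, map_inv, map_inv]
    exact N.mul_mem (hN.conj_mem _ hv _) (N.inv_mem hv)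
  have h10 : ι (rep (1, 0)) ∈ N := by
    rw [show rep (1, 0) = (rep (1, 0) * rep (2, 2) * (rep (1, 0))⁻¹ * (rep (2, 2))⁻¹) *
      (rep (1, 0) * rep (2, 2) * (rep (1, 0))⁻¹ * (rep (2, 2))⁻¹) by decide +kernel, map_mul]
    exact N.mul_mem hc' hc'
  have h1 := (hker _).1 h10
  rw [show (χ : G → ℂ) (ι (rep (1, 0))) = _ from (vals ι χ).1, hd] at h1
  exact_mod_cast h1

namespace Loc

variable {ι} {Q : Mod → Subgroup G} (L : Loc ι Q)
include L

/-- The elements of a section square to non-identity elements. -/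
theorem not_invol {h : Mod} (hD : Dset h) {n : G} (hn : n ∈ Q (tp h)) : ι h * n * (ι h * n) ≠ 1 := by
  intro hsq
  obtain ⟨e1, e2, e3, -⟩ := tp_spec h hD
  set C := Subgroup.centralizer ({ι (tp h)} : Set G)
  haveI := L.normal_sub e2 e3
  haveI : Fintype C := Fintype.ofFinite _
  have hw := regular_mul ((Q (tp h)).subgroupOf C) Nat.prime_three
    (by rw [Nat.card_congr (Subgroup.subgroupOfEquivOfLe (L.le _ e2 e3)).toEquiv]; exact L.cop _ e2 e3)
    (L.section_setup hD) (v := ⟨n, L.le _ e2 e3 hn⟩) hn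
  rw [← Subgroup.orderOf_coe, Subgroup.coe_mul] at hw
  set w := ι (up h) * n with hw'
  have hcw : Commute (ι (tp h)) w := Commute.mul_right
    (by rw [Commute, SemiconjBy, ← map_mul, ← map_mul, (tp_spec h hD).2.2.2.2.1])
    (Subgroup.mem_centralizer_singleton_iff.1 (L.le _ e2 e3 hn)).symm
  have e : ι h * n = ι (tp h) * w := by rw [hw', ← mul_assoc, ← map_mul, e1]
  rw [e, ← pow_two, hcw.mul_pow] at hsq
  have ht : (ι (tp h)) ^ 3 = 1 := by rw [← map_pow, pow_three', e2, map_one]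
  have h1 : w ^ 2 = ι (tp h) := by
    calc w ^ 2 = ι (tp h) ^ 3 * w ^ 2 := by rw [ht, one_mul]
      _ = ι (tp h) * (ι (tp h) ^ 2 * w ^ 2) := by rw [← mul_assoc, ← pow_succ']
      _ = ι (tp h) := by rw [hsq, mul_one]
  refine e3 (L.inj ?_)
  rw [map_one, ← orderOf_eq_one_iff]
  rcases (Nat.dvd_prime Nat.prime_three).1 (orderOf_dvd_of_pow_eq_one ht) with h3 | h3
  · exact h3
  · have h4 := orderOf_pow_dvd (x := w) 2
    rw [h1, h3] at h4
    exact absurd h4 hw

/-- The class multiplications killed by the triangle group `(2, 3, 6)`. -/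
theorem no_prod {h₁ t : Mod} (c₁ : h₁ * h₁ * h₁ = 1) (n₁ : h₁ ≠ 1) (ct : t * t * t = 1) (nt : t ≠ 1)
    {x : G} (hx6 : x ^ 6 = 1) (hx2 : x ^ 2 = ι t) (hne : ¬ IsConj h₁ t⁻¹)
    (hno : ∀ k : Mod, k * k * k = 1 → IsConj h₁ k → ¬ IsConj (k * t⁻¹) k⁻¹) {y : G} (hy : y * y = 1)
    (a : G) (ha : IsConj (ι h₁) a) : ¬ IsConj y (a⁻¹ * x) := by
  intro hb
  have ha3 : a ^ 3 = 1 := by
    obtain ⟨c, rfl⟩ := isConj_iff.1 ha
    rw [conj_pow, ← map_pow, pow_three', c₁, map_one, mul_one, mul_inv_cancel]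
  have hs : (a⁻¹ * x) ^ 2 = 1 := by
    obtain ⟨c, hc⟩ := isConj_iff.1 hb
    rw [← hc, conj_pow, pow_two, hy, mul_one, mul_inv_cancel]
  have ct' : t⁻¹ * t⁻¹ * t⁻¹ = 1 := by
    rw [← mul_inv_rev, ← mul_inv_rev, ← mul_assoc, ct, inv_one]
  rcases Cfsg.Agent.ThreeTI.isConj_or_commute ha3 hx6 hs with hc | ⟨q, q1, q3, qx, qa⟩
  · refine hne (L.fusion _ _ c₁ ct' ?_)
    rw [map_inv, ← hx2]
    exact ha.trans hc
  rw [hx2] at qx
  obtain ⟨n, hn, k, hk, rfl⟩ := L.cube q (by rw [← pow_three', q3]) t ct nt qx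
  have hk1 : k ≠ 1 := fun e => q1 (by rw [e, map_one, mul_one, mul_inv_cancel])
  set a₀ := n⁻¹ * a * n with ha₀
  set x₀ := n⁻¹ * x * n with hx₀
  have hnc : n * ι t = ι t * n := Subgroup.mem_centralizer_singleton_iff.1 (L.le _ ct nt hn)
  have hx02 : x₀ ^ 2 = ι t := by
    rw [hx₀, show (n⁻¹ * x * n) ^ 2 = n⁻¹ * x ^ 2 * n by rw [pow_two, pow_two]; group, hx2, mul_assoc,
      ← hnc, inv_mul_cancel_left]
  have hs0 : a₀⁻¹ * x₀ * (a₀⁻¹ * x₀) = 1 := by
    rw [ha₀, hx₀, show (n⁻¹ * a * n)⁻¹ * (n⁻¹ * x * n) * ((n⁻¹ * a * n)⁻¹ * (n⁻¹ * x * n)) =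
      n⁻¹ * (a⁻¹ * x) ^ 2 * n by rw [pow_two]; group, hs, mul_one, inv_mul_cancel]
  have hqa : Commute a₀ (ι k) := by
    have := qa.eq
    rw [Commute, SemiconjBy, ha₀]
    calc n⁻¹ * a * n * ι k = n⁻¹ * (a * (n * ι k * n⁻¹)) * n := by group
      _ = n⁻¹ * (n * ι k * n⁻¹ * a) * n := by rw [this]
      _ = ι k * (n⁻¹ * a * n) := by group
  have ha03 : a₀ * a₀ * a₀ = 1 := by
    rw [ha₀, show n⁻¹ * a * n * (n⁻¹ * a * n) * (n⁻¹ * a * n) = n⁻¹ * (a * a * a) * n by group,
      ← pow_three', ha3, mul_one, inv_mul_cancel]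
  obtain ⟨m, hm, j, hj, hje⟩ := L.cube a₀ ha03 k hk hk1 hqa
  have hconj : IsConj (ι h₁) a₀ := ha.trans (isConj_iff.2 ⟨n⁻¹, by rw [ha₀]; group⟩)
  have hj1 : IsConj h₁ j := L.fusion _ _ c₁ hj (hconj.trans (isConj_iff.2 ⟨m⁻¹, by rw [← hje]; group⟩))
  have hj' : j⁻¹ * j⁻¹ * j⁻¹ = 1 := by rw [← mul_inv_rev, ← mul_inv_rev, ← mul_assoc, hj, inv_one]
  -- the conjugate of the inverse
  set g := a₀ * ι t⁻¹ with hg
  have hgx : g = x₀ * a₀⁻¹ * x₀⁻¹ := by
    have e : x₀ * a₀⁻¹ * x₀ = a₀ := by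
      calc x₀ * a₀⁻¹ * x₀ = a₀ * (a₀⁻¹ * x₀ * (a₀⁻¹ * x₀)) := by group
        _ = a₀ := by rw [hs0, mul_one]
    rw [hg, map_inv, ← hx02]
    conv_lhs => rw [← e]
    rw [pow_two]
    group
  have hg3 : g * g * g = 1 := by
    rw [hgx, show x₀ * a₀⁻¹ * x₀⁻¹ * (x₀ * a₀⁻¹ * x₀⁻¹) * (x₀ * a₀⁻¹ * x₀⁻¹) =
      x₀ * (a₀ * a₀ * a₀)⁻¹ * x₀⁻¹ by group, ha03, inv_one, mul_one, mul_inv_cancel]
  have hgk : Commute g (ι k) := hqa.mul_left (by
    rw [Commute, SemiconjBy, ← map_mul, ← map_mul, cube_cube k t⁻¹ hk ct'])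
  obtain ⟨m', hm', i, hi, hie⟩ := L.cube g hg3 k hk hk1 hgk
  have hik : i = j * t⁻¹ := by
    refine (mul_inv_eq_one.1 (L.trivial_meet hk hk1 ?_)).symm
    have e1 : ι (j * t⁻¹ * i⁻¹) =
        (m * (ι j * m⁻¹ * (ι j)⁻¹))⁻¹ * (m' * (ι i * m'⁻¹ * (ι i)⁻¹)) := by
      have e : m * ι j * m⁻¹ * ι t⁻¹ = m' * ι i * m'⁻¹ := by rw [hje, hie]
      rw [map_mul, map_mul, map_inv ι i]
      calc ι j * ι t⁻¹ * (ι i)⁻¹
          = (m * (ι j * m⁻¹ * (ι j)⁻¹))⁻¹ * (m * ι j * m⁻¹ * ι t⁻¹) * (ι i)⁻¹ := by group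
        _ = _ := by rw [e]; group
    rw [e1]
    exact mul_mem (inv_mem (mul_mem hm (L.nor _ hk hk1 _ (L.mem_cent (cube_cube k j hk hj).symm.symm) _
      (inv_mem hm)))) (mul_mem hm' (L.nor _ hk hk1 _ (L.mem_cent (cube_cube k i hk hi).symm.symm) _
      (inv_mem hm')))
  refine hno j hj hj1 (hik ▸ L.fusion _ _ hi hj' ?_)
  have g1 : IsConj (ι i) g := isConj_iff.2 ⟨m', hie⟩
  have g2 : IsConj (ι j⁻¹) g := isConj_iff.2 ⟨x₀ * m, by rw [hgx, map_inv, ← hje]; group⟩
  exact g1.trans g2.symm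

variable {M : Ideal AlgInt} [M.IsPrime]

omit L in
/-- A sum over the principal block. -/
theorem sum_block {R : Type*} [AddCommMonoid R] (f : IrrCharacter G → R) [DecidablePred (· ∈ principalBlock M G)]
    [Fintype {χ : IrrCharacter G // χ ∈ principalBlock M G}] :
    ∑ i : {χ : IrrCharacter G // χ ∈ principalBlock M G}, f i.1 =
      ∑ χ : IrrCharacter G, if χ ∈ principalBlock M G then f χ else 0 := by
  rw [← Finset.sum_filter]
  exact (Finset.sum_subtype _ (fun x => by simp) f).symm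

open scoped Classical in
/-- Sums against a section only see the principal block. -/
theorem block_sum_zero (hM : IsPModular 3 M) {h : Mod} (hD : Dset h) (g : IrrCharacter G → ℂ)
    (h0 : ∀ n ∈ Q (tp h), ∑ χ : IrrCharacter G, g χ * conj ((χ : G → ℂ) (ι h * n)) = 0) :
    ∑ χ : IrrCharacter G, (if χ ∈ principalBlock M G then g χ * conj ((χ : G → ℂ) (ι h)) else 0) = 0 := by
  have step : ∀ χ : IrrCharacter G, (if χ ∈ principalBlock M G then g χ * conj ((χ : G → ℂ) (ι h)) else 0) =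
      (Nat.card (Q (tp h)) : ℂ)⁻¹ * ∑ n : Q (tp h), g χ * conj ((χ : G → ℂ) (ι h * (n : G))) := fun χ => by
    rw [← Finset.mul_sum, ← map_sum]
    by_cases hχ : χ ∈ principalBlock M G
    · rw [if_pos hχ, Finset.sum_congr rfl fun (n : Q (tp h)) _ => L.const hM hχ hD n.2, Finset.sum_const,
        Finset.card_univ, ← Nat.card_eq_fintype_card, nsmul_eq_mul, map_mul, map_natCast]
      have : (Nat.card (Q (tp h)) : ℂ) ≠ 0 := Nat.cast_ne_zero.2 Nat.card_pos.ne'
      field_simp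
    · rw [if_neg hχ, L.sum_core hM hχ hD, map_zero, mul_zero, mul_zero]
  rw [Finset.sum_congr rfl fun χ _ => step χ, ← Finset.mul_sum, Finset.sum_comm,
    Finset.sum_eq_zero fun (n : Q (tp h)) _ => h0 n n.2, mul_zero]

open scoped Classical in
theorem orth_block (hM : IsPModular 3 M) {v w : Mod → ℤ} (hv : Vanish Dset v) (hw : Vanish Dset w) :
    (∑ χ : IrrCharacter G, if χ ∈ principalBlock M G then coef hv ι χ * coef hw ι χ else 0) *
      (Fintype.card Mod : ℤ) = ∑ h, v h * w h := by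
  have key : ∀ h h' : Mod, (v h : ℂ) * (w h' : ℂ) * ∑ χ : IrrCharacter G,
      (if χ ∈ principalBlock M G then (χ : G → ℂ) (ι h') * conj ((χ : G → ℂ) (ι h)) else 0) =
      (v h : ℂ) * (w h' : ℂ) * ((Finset.univ.filter fun x : Mod => x * h * x⁻¹ = h').card : ℂ) := by
    intro h h'
    by_cases h0 : v h = 0
    · simp [h0]
    by_cases h1 : w h' = 0
    · simp [h1]
    rw [L.pairing hM (hv.supp h h0) (hw.supp h' h1)]
  have e : ((∑ χ : IrrCharacter G, if χ ∈ principalBlock M G then coef hv ι χ * coef hw ι χ else 0 : ℤ) : ℂ) *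
      (Fintype.card Mod : ℂ) * (Fintype.card Mod : ℂ) =
      ((∑ h, v h * w h : ℤ) : ℂ) * (Fintype.card Mod : ℂ) := by
    push_cast
    calc (∑ χ : IrrCharacter G, if χ ∈ principalBlock M G then (coef hv ι χ : ℂ) * (coef hw ι χ : ℂ) else 0) *
          (Fintype.card Mod : ℂ) * (Fintype.card Mod : ℂ)
        = ∑ χ : IrrCharacter G, if χ ∈ principalBlock M G then
            ((coef hv ι χ : ℂ) * (Fintype.card Mod : ℂ)) *
              conj ((coef hw ι χ : ℂ) * (Fintype.card Mod : ℂ)) else 0 := by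
          rw [Finset.sum_mul, Finset.sum_mul]
          refine Finset.sum_congr rfl fun χ _ => ?_
          rw [map_mul, map_intCast, map_natCast]
          split_ifs <;> ring
      _ = ∑ χ : IrrCharacter G, ∑ h, ∑ h', (v h : ℂ) * (w h' : ℂ) *
            (if χ ∈ principalBlock M G then (χ : G → ℂ) (ι h') * conj ((χ : G → ℂ) (ι h)) else 0) := by
          refine Finset.sum_congr rfl fun χ _ => ?_
          split_ifs
          · rw [coef_spec, coef_spec, map_sum, Finset.sum_mul_sum]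
            refine Finset.sum_congr rfl fun h _ => Finset.sum_congr rfl fun h' _ => ?_
            rw [map_mul, Complex.conj_conj, map_intCast]
            ring
          · simp
      _ = ∑ h, ∑ h', (v h : ℂ) * (w h' : ℂ) *
            ((Finset.univ.filter fun x : Mod => x * h * x⁻¹ = h').card : ℂ) := by
          rw [Finset.sum_comm]
          refine Finset.sum_congr rfl fun h _ => ?_
          rw [Finset.sum_comm]
          exact Finset.sum_congr rfl fun h' _ => by rw [← key, Finset.mul_sum]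
      _ = ∑ h, (v h : ℂ) * ∑ x : Mod, (w (x * h * x⁻¹) : ℂ) := by
          refine Finset.sum_congr rfl fun h _ => ?_
          rw [← Finset.sum_fiberwise Finset.univ (fun x : Mod => x * h * x⁻¹)
            (fun x => (w (x * h * x⁻¹) : ℂ)), Finset.mul_sum]
          refine Finset.sum_congr rfl fun h' _ => ?_
          rw [Finset.sum_congr rfl (fun x hx => by rw [(Finset.mem_filter.1 hx).2] : ∀ x ∈ _,
            (w (x * h * x⁻¹) : ℂ) = (w h' : ℂ)), Finset.sum_const, nsmul_eq_mul]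
          ring
      _ = _ := by
          simp only [hw.cls, Finset.sum_const, Finset.card_univ, nsmul_eq_mul]
          rw [Finset.sum_mul]
          exact Finset.sum_congr rfl fun h _ => by ring
  have hH : (Fintype.card Mod : ℂ) ≠ 0 := Nat.cast_ne_zero.2 Fintype.card_ne_zero
  exact_mod_cast mul_right_cancel₀ hH e

open scoped Classical in
theorem vanish_block (hM : IsPModular 3 M) {y : G} (hy : y * y = 1) (x : IrrCharacter G → ℤ)
    (hx : ∀ χ : IrrCharacter G, (χ : G → ℂ) y = x χ) (k : Fin 5) :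
    (∑ χ : IrrCharacter G, if χ ∈ principalBlock M G then cl ι χ k * x χ else 0) = 0 := by
  have hH : (Fintype.card Mod : ℂ) ≠ 0 := Nat.cast_ne_zero.2 Fintype.card_ne_zero
  have e : ((∑ χ : IrrCharacter G, if χ ∈ principalBlock M G then cl ι χ k * x χ else 0 : ℤ) : ℂ) *
      (Fintype.card Mod : ℂ) = ((0 : ℤ) : ℂ) * (Fintype.card Mod : ℂ) := by
    rw [Int.cast_zero, zero_mul]
    push_cast
    calc (∑ χ : IrrCharacter G, if χ ∈ principalBlock M G then (cl ι χ k : ℂ) * (x χ : ℂ) else 0) *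
          (Fintype.card Mod : ℂ)
        = ∑ χ : IrrCharacter G, ∑ h, (vec k h : ℂ) *
            (if χ ∈ principalBlock M G then (χ : G → ℂ) y * conj ((χ : G → ℂ) (ι h)) else 0) := by
          rw [Finset.sum_mul]
          refine Finset.sum_congr rfl fun χ _ => ?_
          split_ifs
          · rw [cl, mul_right_comm, coef_spec, Finset.sum_mul, hx]
            exact Finset.sum_congr rfl fun h _ => by ring
          · simp
      _ = 0 := by
          rw [Finset.sum_comm]
          refine Finset.sum_eq_zero fun h _ => ?_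
          rw [← Finset.mul_sum]
          by_cases h0 : vec k h = 0
          · simp [h0]
          have hD := (vec_vanish k).supp h h0
          rw [L.block_sum_zero hM hD _ fun n hn => column_orth_of_not_isConj fun hc => ?_, mul_zero]
          obtain ⟨c, hc'⟩ := isConj_iff.1 hc
          refine L.not_invol hD hn ?_
          rw [← hc', show c * y * c⁻¹ * (c * y * c⁻¹) = c * (y * y) * c⁻¹ by group, hy,
            mul_one, mul_inv_cancel]
  exact_mod_cast mul_right_cancel₀ hH e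

open scoped Classical in
theorem eqs_block (hM : IsPModular 3 M) {y : G} (hy : y * y = 1) (x : IrrCharacter G → ℤ)
    (hx : ∀ χ : IrrCharacter G, (χ : G → ℂ) y = x χ) :
    ∀ P ∈ Alg.prods, ∑ χ : IrrCharacter G,
      (((if χ ∈ principalBlock M G then P (cl ι χ) * x χ else 0 : ℤ)) : ℚ) / deg χ = 0 := by
  intro P hP
  suffices h : ∑ χ : IrrCharacter G,
      (if χ ∈ principalBlock M G then (P (cl ι χ) : ℂ) * (x χ : ℂ) / (χ : G → ℂ) 1 else 0) = 0 by
    have e : ((∑ χ : IrrCharacter G, (((if χ ∈ principalBlock M G then P (cl ι χ) * x χ else 0 : ℤ)) : ℚ) /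
        deg χ : ℚ) : ℂ) = ((0 : ℚ) : ℂ) := by
      rw [Rat.cast_zero, ← h]
      push_cast
      refine Finset.sum_congr rfl fun χ _ => ?_
      rw [CharX.irr_deg χ]
      split_ifs <;> simp [deg]
    exact Rat.cast_injective e
  have hreal : ∀ (z : Mod) (χ : IrrCharacter G), conj ((χ : G → ℂ) (ι z)) = (χ : G → ℂ) (ι z) :=
    fun z χ => by
      obtain ⟨k, hk⟩ := real_class z
      exact conj_value ι χ (isConj_iff.2 ⟨k, hk⟩)
  have six : ∀ (h₁ t : Mod), h₁ * h₁ * h₁ = 1 → h₁ ≠ 1 → t * t * t = 1 → t ≠ 1 → ¬ IsConj h₁ t⁻¹ →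
      (∀ k : Mod, k * k * k = 1 → IsConj h₁ k → ¬ IsConj (k * t⁻¹) k⁻¹) →
      ∀ z : G, z ^ 6 = 1 → z ^ 2 = ι t →
        ∑ χ : IrrCharacter G, (χ : G → ℂ) (ι h₁) * (x χ : ℂ) * conj ((χ : G → ℂ) z) / (χ : G → ℂ) 1 = 0 := by
    intro h₁ t a b c d e f z z6 z2
    rw [← count_zero (ι h₁) y z (L.no_prod a b c d z6 z2 e f hy)]
    exact Finset.sum_congr rfl fun χ _ => by rw [hx]
  have other : ∀ (h₁ h : Mod), Dset h → (∀ χ, (P (cl ι χ) : ℂ) = (χ : G → ℂ) (ι h₁) * (χ : G → ℂ) (ι h)) →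
      (∀ n ∈ Q (tp h), ∑ χ : IrrCharacter G,
        (χ : G → ℂ) (ι h₁) * (x χ : ℂ) * conj ((χ : G → ℂ) (ι h * n)) / (χ : G → ℂ) 1 = 0) →
      ∑ χ : IrrCharacter G,
        (if χ ∈ principalBlock M G then (P (cl ι χ) : ℂ) * (x χ : ℂ) / (χ : G → ℂ) 1 else 0) = 0 := by
    intro h₁ h hD hP h0
    refine (Finset.sum_congr rfl fun χ _ => ?_).trans
      (L.block_sum_zero hM hD (fun χ => (χ : G → ℂ) (ι h₁) * (x χ : ℂ) / (χ : G → ℂ) 1) fun n hn =>
        (Finset.sum_congr rfl fun χ _ => by ring).trans (h0 n hn))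
    split_ifs
    · rw [hP, hreal]; ring
    · rfl
  have cases : ∀ (h₁ h : Mod), h₁ * h₁ * h₁ = 1 → h₁ ≠ 1 → Dset h → (tp h * tp h) * (tp h * tp h) * (tp h * tp h) = 1 →
      tp h * tp h ≠ 1 → h = tp h → ¬ IsConj h₁ (tp h * tp h)⁻¹ →
      (∀ k : Mod, k * k * k = 1 → IsConj h₁ k → ¬ IsConj (k * (tp h * tp h)⁻¹) k⁻¹) →
      (∀ χ, (P (cl ι χ) : ℂ) = (χ : G → ℂ) (ι h₁) * (χ : G → ℂ) (ι h)) →
      ∑ χ : IrrCharacter G,
        (if χ ∈ principalBlock M G then (P (cl ι χ) : ℂ) * (x χ : ℂ) / (χ : G → ℂ) 1 else 0) = 0 := by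
    intro h₁ h a b hD c d e hne hno hP'
    refine other h₁ h hD hP' fun n hn => ?_
    obtain ⟨-, f2, f3, -⟩ := tp_spec h hD
    have hc : Commute (ι h) n := by
      rw [e]
      exact (Subgroup.mem_centralizer_singleton_iff.1 (L.le _ f2 f3 hn)).symm
    have h2 : (ι h * n) ^ 2 = ι (tp h * tp h) := by
      rw [hc.mul_pow, pow_two n, L.invol _ f2 f3 n hn, mul_one, pow_two, ← map_mul, ← e]
    refine six h₁ _ a b c d hne hno _ ?_ h2
    rw [show (6 : ℕ) = 2 * 3 from rfl, pow_mul, h2, ← map_pow, pow_three', c, map_one]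
  simp only [Alg.prods, List.mem_cons, List.not_mem_nil, or_false] at hP
  rcases hP with rfl | rfl | rfl
  · exact cases (rep (1, 0)) (rep (0, 1)) (by decide +kernel) (by decide +kernel) (by decide +kernel)
      (by decide +kernel) (by decide +kernel) (by decide +kernel) (by rw [isConj_iff]; decide +kernel)
      (by simp only [isConj_iff]; decide +kernel) fun χ => by
        rw [show (χ : G → ℂ) (ι (rep (1, 0))) = _ from (vals ι χ).1,
          show (χ : G → ℂ) (ι (rep (0, 1))) = _ from (vals ι χ).2.1, Int.cast_mul]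
  · exact cases (rep (1, 0)) (rep (1, 1)) (by decide +kernel) (by decide +kernel) (by decide +kernel)
      (by decide +kernel) (by decide +kernel) (by decide +kernel) (by rw [isConj_iff]; decide +kernel)
      (by simp only [isConj_iff]; decide +kernel) fun χ => by
        rw [show (χ : G → ℂ) (ι (rep (1, 0))) = _ from (vals ι χ).1,
          show (χ : G → ℂ) (ι (rep (1, 1))) = _ from (vals ι χ).2.2.1, Int.cast_mul]
  · exact cases (rep (0, 1)) (rep (1, 1)) (by decide +kernel) (by decide +kernel) (by decide +kernel)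
      (by decide +kernel) (by decide +kernel) (by decide +kernel) (by rw [isConj_iff]; decide +kernel)
      (by simp only [isConj_iff]; decide +kernel) fun χ => by
        rw [show (χ : G → ℂ) (ι (rep (0, 1))) = _ from (vals ι χ).2.1,
          show (χ : G → ℂ) (ι (rep (1, 1))) = _ from (vals ι χ).2.2.1, Int.cast_mul]

open scoped Classical in
/-- The numerical system on the principal block. -/
noncomputable def system (hM : IsPModular 3 M) : Alg.Sys {χ : IrrCharacter G // χ ∈ principalBlock M G} where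
  o := ⟨princ G, principal_mem_principalBlock⟩
  κ := fun χ => cl ι χ.1
  d := fun χ => deg χ.1
  t := fun χ => vT ι χ.1
  u := fun χ => vU ι χ.1
  v := fun χ => vV ι χ.1
  κ_o := funext fun k => by
    have h := coef_one (vec_vanish k) ι (χ := princ G) fun _ => rfl
    rw [show Fintype.card Mod = 36 by decide +kernel, sum_vec] at h
    have : cl ι (princ G) k * 36 = 36 * (![1, 0, 0, 1, 0] : Fin 5 → ℤ) k := h
    show cl ι (princ G) k = _
    omega
  d_o := by
    have h : ((deg (princ G) : ℤ) : ℂ) = ((1 : ℤ) : ℂ) := by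
      rw [← value_degree (ι := ι)]; simp [value, princ]
    exact_mod_cast h
  t_o := by
    have h : ((vT ι (princ G) : ℤ) : ℂ) = ((1 : ℤ) : ℂ) := by
      rw [← (vals ι (princ G)).2.2.2.2.2.1]; simp [value, princ]
    exact_mod_cast h
  u_o := by
    have h : ((vU ι (princ G) : ℤ) : ℂ) = ((1 : ℤ) : ℂ) := by
      rw [← (vals ι (princ G)).2.2.2.2.2.2]; simp [value, princ]
    exact_mod_cast h
  v_o := by
    have h : ((vV ι (princ G) : ℤ) : ℂ) = ((1 : ℤ) : ℂ) := by
      rw [← val_V ι (princ G)]; simp [value, princ]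
    exact_mod_cast h
  bound := fun χ => by
    have h1 : (χ.1 : G → ℂ) 1 = (Cfsg.charDegree (χ.1 : G → ℂ) : ℂ) := CharX.irr_deg χ.1
    have h := IsIrrCharacter.norm_le χ.1.2 h1 (ι (rep (2, 2)))
    rw [show (χ.1 : G → ℂ) (ι (rep (2, 2))) = _ from val_V ι χ.1, Complex.norm_intCast] at h
    have : |(vV ι χ.1 : ℝ)| ≤ ((deg χ.1 : ℤ) : ℝ) := by simpa [deg] using h
    exact_mod_cast this
  full := fun χ h => deg_of_full ι χ.1 h
  lin := fun χ hd => by
    obtain ⟨f, -, fT, fU, sT, sU⟩ := GridBlock.Loc.hom_signs (ι := ι) χ.1 hd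
    refine ⟨?_, ?_, ?_⟩
    · rcases sT with e | e <;> simp [e]
    · rcases sU with e | e <;> simp [e]
    · have hv := lin_value ι χ.1 hd
      exact hv
  van_v := fun k => by
    rw [sum_block (fun χ => cl ι χ k * vV ι χ)]
    exact L.vanish_block hM (y := ι (rep (2, 2))) (by rw [← map_mul, invol_v, map_one]) _
      (fun χ => val_V ι χ) k
  eq_v := by
    rw [sum_block (fun χ => ((E10 (cl ι χ) * E01 (cl ι χ) * vV ι χ : ℤ) : ℚ) / deg χ)]
    refine Eq.trans (Finset.sum_congr rfl fun χ _ => ?_)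
      (L.eqs_block hM (y := ι (rep (2, 2))) (by rw [← map_mul, invol_v, map_one]) _
        (fun χ => val_V ι χ) (fun c => E10 c * E01 c) (by simp [Alg.prods]))
    split_ifs <;> simp
  d_pos := fun χ => Int.natCast_pos.2 (CharX.irr_deg_pos χ.1)
  orth := fun k l => by
    have h := L.orth_block hM (vec_vanish k) (vec_vanish l)
    rw [show Fintype.card Mod = 36 by decide +kernel, sum_vec_mul] at h
    have e : ∀ j, cl ι (princ G) j = (![1, 0, 0, 1, 0] : Fin 5 → ℤ) j := fun j => by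
      have h := coef_one (vec_vanish j) ι (χ := princ G) fun _ => rfl
      rw [show Fintype.card Mod = 36 by decide +kernel, sum_vec] at h
      have : cl ι (princ G) j * 36 = 36 * (![1, 0, 0, 1, 0] : Fin 5 → ℤ) j := h
      omega
    show ∑ χ : {χ : IrrCharacter G // χ ∈ principalBlock M G}, cl ι χ.1 k * cl ι χ.1 l =
      cl ι (princ G) k * cl ι (princ G) l + _
    rw [e, e, sum_block (fun χ => cl ι χ k * cl ι χ l)]
    change (∑ χ : IrrCharacter G, if χ ∈ principalBlock M G then cl ι χ k * cl ι χ l else 0) * (36 : ℤ) = _ at h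
    linarith
  van_d := fun k => by
    rw [sum_block (fun χ => cl ι χ k * deg χ)]
    exact L.vanish_block hM (one_mul 1) deg (fun χ => by
      rw [← value_degree (ι := ι) χ]; simp [value, show rep (0, 0) = 1 from rfl]) k
  van_t := fun k => by
    rw [sum_block (fun χ => cl ι χ k * vT ι χ)]
    exact L.vanish_block hM (y := ι (rep (0, 2))) (by rw [← map_mul, invol_t, map_one]) _
      (fun χ => (vals ι χ).2.2.2.2.2.1) k
  van_u := fun k => by
    rw [sum_block (fun χ => cl ι χ k * vU ι χ)]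
    exact L.vanish_block hM (y := ι (rep (2, 0))) (by rw [← map_mul, invol_u, map_one]) _
      (fun χ => (vals ι χ).2.2.2.2.2.2) k
  cong_t := fun χ => ⟨coef (fn_true good_plus good_minus) ι χ.1 - E12 (cl ι χ.1), by
    simp only [vT]; ring⟩
  cong_u := fun χ => ⟨coef (fn_true good_minus good_plus) ι χ.1 - E21 (cl ι χ.1), by
    simp only [vU]; ring⟩
  cong_d := fun χ => cong9 ι χ.1
  eq_t := fun P hP => by
    rw [sum_block (fun χ => ((P (cl ι χ) * vT ι χ : ℤ) : ℚ) / deg χ)]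
    refine Eq.trans (Finset.sum_congr rfl fun χ _ => ?_)
      (L.eqs_block hM (y := ι (rep (0, 2))) (by rw [← map_mul, invol_t, map_one]) _
        (fun χ => (vals ι χ).2.2.2.2.2.1) P hP)
    split_ifs <;> simp
  eq_u := fun P hP => by
    rw [sum_block (fun χ => ((P (cl ι χ) * vU ι χ : ℤ) : ℚ) / deg χ)]
    refine Eq.trans (Finset.sum_congr rfl fun χ _ => ?_)
      (L.eqs_block hM (y := ι (rep (2, 0))) (by rw [← map_mul, invol_u, map_one]) _
        (fun χ => (vals ι χ).2.2.2.2.2.2) P hP)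
    split_ifs <;> simp

end Loc

/-- The normaliser splits off: a normal subgroup meeting it in the Sylow subgroup. -/
theorem exists_kernel {G : Type u} [Group G] [Finite G] {ι : Mod →* G} {Q : Mod → Subgroup G}
    (L : Loc ι Q) : ∃ K : Subgroup G, K.Normal ∧ ∀ h : Mod, ι h ∈ K ↔ h * h * h = 1 := by
  classical
  haveI : Fintype G := Fintype.ofFinite G
  haveI : Fact (Nat.Prime 3) := ⟨Nat.prime_three⟩
  obtain ⟨M, hM⟩ := GlaubermanMod.exists_isPModular 3
  haveI : M.IsPrime := Blocks.IsPModular.isPrime hM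
  obtain ⟨A, B, dA, dB, tA, uA, tB, uB⟩ := Alg.exists_linear (L.system hM)
  obtain ⟨f, f1, fT, fU, sT, sU⟩ := GridBlock.Loc.hom_signs (ι := ι) A.1 dA
  obtain ⟨g, g1, gT, gU, s'T, s'U⟩ := GridBlock.Loc.hom_signs (ι := ι) B.1 dB
  change 3 ∣ vT ι A.1 - 1 at tA
  change 3 ∣ vU ι A.1 + 1 at uA
  change 3 ∣ vT ι B.1 + 1 at tB
  change 3 ∣ vU ι B.1 - 1 at uB
  refine ⟨f.ker ⊓ g.ker, inferInstance, fun h => ⟨fun hh => ?_, fun e => ⟨f1 h e, g1 h e⟩⟩⟩
  obtain ⟨i, hi⟩ := cosets h
  set l : Mod := (![1, rep (0, 2), rep (2, 0), rep (0, 2) * rep (2, 0)] : Fin 4 → Mod) i with hl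
  have hi' : h * l⁻¹ * (h * l⁻¹) * (h * l⁻¹) = 1 := hi
  have hkl : h = h * l⁻¹ * l := by group
  have e1 : f (ι l) = 1 := by
    have h0 : f (ι h) = 1 := hh.1
    rwa [hkl, map_mul, map_mul, f1 _ hi', one_mul] at h0
  have e2 : g (ι l) = 1 := by
    have h0 : g (ι h) = 1 := hh.2
    rwa [hkl, map_mul, map_mul, g1 _ hi', one_mul] at h0
  have aT : vT ι A.1 = 1 := by omega
  have aU : vU ι A.1 = -1 := by omega
  have bT : vT ι B.1 = -1 := by omega
  have bU : vU ι B.1 = 1 := by omega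
  rw [aT] at fT; rw [aU] at fU; rw [bT] at gT; rw [bU] at gU
  fin_cases i
  · simpa [hl] using hi'
  · have := congrArg Units.val e2
    simp [hl, gT] at this
    norm_num at this
  · have := congrArg Units.val e1
    simp [hl, fU] at this
    norm_num at this
  · have := congrArg Units.val e1
    simp [hl, map_mul, fT, fU] at this
    norm_num at this

end Cfsg.Agent.Co2Three.Grid
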