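import Cfsg.Agent.Lib.GridBlock.Core
import Cfsg.Agent.Lib.Co2Three.Grid.Main

/-!
The group is the product of the model and a normal subgroup of order prime to three generated by the four cores,
whose order is the product of their orders.
-/

set_option autoImplicit false
set_option maxRecDepth 20000
set_option linter.style.haveILetI false
set_option linter.unusedSectionVars false

namespace Cfsg.Agent.Co2Three.Grid

open Cfsg Cfsg.Agent.ThreeTI.Grid
open Cfsg.Agent.GridBlock (cubes mem_cubes four_lines four_apart four_cube cube_cube cube_conj cube_self)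

universe u

variable {G : Type u} [Group G] [Finite G]

/-- The conclusion. -/
structure Split (ι : Mod →* G) (Q : Mod → Subgroup G) (O : Subgroup G) : Prop where
  normal : O.Normal
  cop : ¬ 3 ∣ Nat.card O
  meet : ∀ h : Mod, ι h ∈ O → h = 1
  prod : ∀ g : G, ∃ o ∈ O, ∃ h : Mod, g = o * ι h
  cent : ∀ h : Mod, h * h * h = 1 → h ≠ 1 → O ⊓ Subgroup.centralizer ({ι h} : Set G) = Q h
  gen : O = ⨆ h ∈ {h : Mod | h * h * h = 1 ∧ h ≠ 1}, Q h
  card : Nat.card O = Nat.card (Q (rep (1, 0))) * Nat.card (Q (rep (0, 1))) * Nat.card (Q (rep (1, 1))) *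
    Nat.card (Q (.r 1, .r 2))

namespace Loc

variable {ι : Mod →* G} {Q : Mod → Subgroup G} (L : Loc ι Q)
include L

theorem mem_range_of_map {g : G}
    (hg : ∀ h : Mod, h * h * h = 1 → ∃ h' : Mod, h' * h' * h' = 1 ∧ g * ι h * g⁻¹ = ι h') :
    g ∈ ι.range := by
  obtain ⟨h, hh, he⟩ := hg (rep (1, 0)) (by decide +kernel)
  obtain ⟨k, hk⟩ := isConj_iff.1 (L.fusion _ _ (by decide +kernel) hh (isConj_iff.2 ⟨g, he⟩))
  have hc : (ι k)⁻¹ * g ∈ Subgroup.centralizer ({ι (rep (1, 0))} : Set G) := by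
    refine Subgroup.mem_centralizer_singleton_iff.2 ?_
    rw [mul_assoc, mul_inv_eq_iff_eq_mul.1 he, ← hk, map_mul, map_mul, map_inv]
    group
  obtain ⟨n, hn, j, hjc, hj⟩ := L.dec _ (by decide +kernel) (by decide +kernel) _ hc
  -- the core part normalises the Sylow subgroup, so it centralises it
  set z : Mod := j⁻¹ * rep (0, 1) * j with hz
  have hz3 : z * z * z = 1 := by
    have := (cube_conj j⁻¹ (rep (0, 1)) (by decide +kernel)).1
    rwa [inv_inv] at this
  obtain ⟨h', hh', he'⟩ := hg z hz3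
  have hn1 : n = 1 := by
    refine L.free n hn ?_
    set w : Mod := k⁻¹ * h' * k with hw
    have hw3 : w * w * w = 1 := by
      have := (cube_conj k⁻¹ h' hh').1
      rwa [inv_inv] at this
    have e1 : n * ι (rep (0, 1)) * n⁻¹ = ι w := by
      rw [hw, map_mul, map_mul, map_inv, ← he', hz, map_mul, map_mul, map_inv,
        show g = ι k * ((ι k)⁻¹ * g) by group, hj]
      group
    have hm : ι (w * (rep (0, 1))⁻¹) ∈ Q (rep (1, 0)) := by
      rw [map_mul, ← e1, map_inv, mul_assoc n, mul_assoc n]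
      refine mul_mem hn ?_
      exact L.nor _ (by decide +kernel) (by decide +kernel) _
        (L.mem_cent (cube_cube (rep (1, 0)) (rep (0, 1)) (by decide +kernel) (by decide +kernel))) _ (inv_mem hn)
    rw [mul_inv_eq_one.1 (L.trivial_meet (by decide +kernel) (by decide +kernel) hm)] at e1
    exact mul_inv_eq_iff_eq_mul.1 e1
  refine ⟨k * j, ?_⟩
  rw [hn1, one_mul] at hj
  rw [map_mul, ← hj, mul_inv_cancel_left]

/-- The group splits. -/
theorem exists_split (T : Sylow 3 G) (hT : (T : Subgroup G) = cubes.map ι) : ∃ O, Split ι Q O := by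
  classical
  haveI : Fact (Nat.Prime 3) := ⟨Nat.prime_three⟩
  obtain ⟨K, hKn, hK⟩ := exists_kernel L
  haveI := hKn
  have hmemT : ∀ {x : G}, x ∈ (T : Subgroup G) ↔ ∃ h : Mod, h * h * h = 1 ∧ ι h = x := by
    intro x; rw [hT]; exact Iff.rfl
  have hTK : (T : Subgroup G) ≤ K := fun x hx => by
    obtain ⟨h, hh, rfl⟩ := hmemT.1 hx
    exact (hK h).2 hh
  have hNr : Subgroup.normalizer ((T : Subgroup G) : Set G) ≤ ι.range := fun g hg => by
    refine L.mem_range_of_map fun z hz => ?_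
    obtain ⟨h, hh, he⟩ := hmemT.1 ((Subgroup.mem_normalizer_iff.1 hg (ι z)).1 (hmemT.2 ⟨z, hz, rfl⟩))
    exact ⟨h, hh, he.symm⟩
  have hcommT : ∀ x ∈ (T : Subgroup G), ∀ y ∈ (T : Subgroup G), x * y = y * x := fun x hx y hy => by
    obtain ⟨h, hh, rfl⟩ := hmemT.1 hx
    obtain ⟨k, hk, rfl⟩ := hmemT.1 hy
    rw [← map_mul, ← map_mul, cube_cube k h hk hh]
  obtain ⟨TK, hcoe⟩ : ∃ TK : Sylow 3 K, (TK : Subgroup K) = (T : Subgroup G).subgroupOf K :=
    ⟨T.subtype hTK, rfl⟩
  have hnc : Subgroup.normalizer ((TK : Subgroup K) : Set K) ≤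
      Subgroup.centralizer ((TK : Subgroup K) : Set K) := by
    rw [hcoe]
    intro x hx
    have hxT : (x : G) ∈ (T : Subgroup G) := by
      have hxn : (x : G) ∈ Subgroup.normalizer ((T : Subgroup G) : Set G) := by
        refine Subgroup.mem_normalizer_iff.2 fun z => ⟨fun hz => ?_, fun hz => ?_⟩
        · exact (Subgroup.mem_normalizer_iff.1 hx ⟨z, hTK hz⟩).1 hz
        · have hzK : z ∈ K := by
            have h2 := K.mul_mem (K.mul_mem (K.inv_mem x.2) (hTK hz)) x.2
            simpa [mul_assoc] using h2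
          exact (Subgroup.mem_normalizer_iff.1 hx ⟨z, hzK⟩).2 hz
      obtain ⟨h, hh⟩ := hNr hxn
      exact hmemT.2 ⟨h, (hK h).1 (hh ▸ x.2), hh⟩
    rw [Subgroup.mem_centralizer_iff]
    exact fun y hy => Subtype.ext (hcommT _ hy _ hxT)
  obtain ⟨O₀, hO1, hcompl⟩ : ∃ O₀ : Subgroup K, O₀.Normal ∧ O₀.IsComplement' (TK : Subgroup K) :=
    ⟨_, MonoidHom.normal_ker _, MonoidHom.ker_transferSylow_isComplement' TK hnc⟩
  have hcop0 : ¬ 3 ∣ Nat.card O₀ := by
    have h2 : ¬ 3 ∣ (TK : Subgroup K).index := TK.not_dvd_index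
    rwa [hcompl.index_eq_card] at h2
  set O : Subgroup G := O₀.map K.subtype with hO
  have hcop : ¬ 3 ∣ Nat.card O := by
    rwa [hO, Subgroup.card_map_of_injective K.subtype_injective]
  have hcop' : ∀ x ∈ O, Nat.Coprime (orderOf x) 3 := fun x hx =>
    ((Nat.Prime.coprime_iff_not_dvd Nat.prime_three).2
      fun h => hcop (h.trans (Subgroup.orderOf_dvd_natCard O hx))).symm
  -- the elements of the kernel of order prime to three
  have hchar : ∀ x ∈ K, Nat.Coprime (orderOf x) 3 → x ∈ O := fun x hx hc => by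
    obtain ⟨⟨⟨o, ho⟩, ⟨t, ht⟩⟩, he⟩ := (hcompl : Function.Bijective _).2 ⟨x, hx⟩
    have hi : O₀.index = Nat.card (TK : Subgroup K) := hcompl.symm.index_eq_card
    have hp : (⟨x, hx⟩ : K) ^ Nat.card (TK : Subgroup K) ∈ O₀ := hi ▸ Subgroup.pow_index_mem _ _
    obtain ⟨m, hm⟩ := exists_pow_eq_self_of_coprime
      (show (Nat.card (TK : Subgroup K)).Coprime (orderOf (⟨x, hx⟩ : K)) from by
        obtain ⟨n, hn⟩ := TK.isPGroup'.exists_card_eq
        rw [hn, ← Subgroup.orderOf_coe]
        exact (Nat.Coprime.pow_left n hc.symm))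
    exact ⟨⟨x, hx⟩, hm ▸ pow_mem hp m, rfl⟩
  haveI hOn : O.Normal := ⟨fun x hx g => by
    refine hchar _ (hKn.conj_mem x (Subgroup.map_subtype_le _ hx) g) ?_
    rw [show g * x * g⁻¹ = MulAut.conj g x from rfl, MulEquiv.orderOf_eq]
    exact hcop' x hx⟩
  have meet : ∀ h : Mod, ι h ∈ O → h = 1 := fun h hh => by
    have h3 : h * h * h = 1 := (hK h).1 (Subgroup.map_subtype_le _ hh)
    refine L.inj ?_
    rw [map_one, ← orderOf_eq_one_iff]
    exact Nat.eq_one_of_dvd_coprimes (hcop' _ hh) dvd_rfl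
      (orderOf_dvd_of_pow_eq_one (by rw [← map_pow, pow_three', h3, map_one]))
  have prod : ∀ g : G, ∃ o ∈ O, ∃ h : Mod, g = o * ι h := fun g => by
    have hfr := Sylow.normalizer_sup_eq_top TK
    rw [hcoe, Subgroup.map_subgroupOf_eq_of_le hTK] at hfr
    obtain ⟨n, hn, k, hk, rfl⟩ : ∃ n ∈ Subgroup.normalizer ((T : Subgroup G) : Set G), ∃ k ∈ K, n * k = g := by
      have hg : g ∈ ((Subgroup.normalizer ((T : Subgroup G) : Set G) ⊔ K : Subgroup G) : Set G) := by
        rw [hfr]; exact Subgroup.mem_top g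
      rw [Subgroup.mul_normal] at hg
      exact hg
    obtain ⟨h, rfl⟩ := hNr hn
    obtain ⟨⟨⟨o, ho⟩, ⟨t, ht⟩⟩, he⟩ := (hcompl : Function.Bijective _).2 ⟨k, hk⟩
    rw [hcoe] at ht
    obtain ⟨j, -, hj⟩ := hmemT.1 (ht : (t : G) ∈ (T : Subgroup G))
    refine ⟨ι h * o * (ι h)⁻¹, hOn.conj_mem _ (Subgroup.mem_map_of_mem K.subtype ho) _, h * j, ?_⟩
    have e : (o : G) * (t : G) = k := congrArg Subtype.val he
    rw [← e, map_mul, hj, Subgroup.coe_subtype]
    group
  have hQO : ∀ h : Mod, h * h * h = 1 → h ≠ 1 → Q h ≤ O := by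
    intro h hh h1 x hx
    obtain ⟨o, ho, k, hk⟩ := prod x
    have key : ∀ t : Mod, t * t * t = 1 → k * t * k⁻¹ * t⁻¹ = 1 := by
      intro t ht
      set w := k * t * k⁻¹ * t⁻¹ with hw
      have hc : ι t ∈ Subgroup.centralizer ({ι h} : Set G) := L.mem_cent (cube_cube h t hh ht)
      have hu : x * (ι t * x⁻¹ * (ι t)⁻¹) ∈ Q h := mul_mem hx (L.nor h hh h1 _ hc _ (inv_mem hx))
      have hw3 : w * w * w = 1 := (cube_conj k t ht).2
      have hv : (ι w)⁻¹ * (x * (ι t * x⁻¹ * (ι t)⁻¹)) ∈ O := by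
        have e : (ι w)⁻¹ * (x * (ι t * x⁻¹ * (ι t)⁻¹)) =
            (ι w)⁻¹ * o * ι w * (ι t * o⁻¹ * (ι t)⁻¹) := by
          rw [hk, hw]; simp only [map_mul, map_inv]; group
        rw [e]
        refine mul_mem ?_ (hOn.conj_mem _ (inv_mem ho) _)
        have := hOn.conj_mem _ ho (ι w)⁻¹
        rwa [inv_inv] at this
      -- a power of the core element kills the three-part
      set u := x * (ι t * x⁻¹ * (ι t)⁻¹) with hu'
      have hq : QuotientGroup.mk' O u = QuotientGroup.mk' O (ι w) := by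
        refine (QuotientGroup.eq.2 ?_).symm
        exact hv
      refine meet w ((QuotientGroup.eq_one_iff _).1 (orderOf_eq_one_iff.1 ?_))
      refine Nat.eq_one_of_dvd_coprimes
        (((Nat.Prime.coprime_iff_not_dvd Nat.prime_three).2 (L.cop h hh h1)).symm) ?_ ?_
      · show orderOf (QuotientGroup.mk' O (ι w)) ∣ _
        rw [← hq]
        exact (orderOf_map_dvd _ u).trans (Subgroup.orderOf_dvd_natCard _ hu)
      · exact (orderOf_map_dvd (QuotientGroup.mk' O) (ι w)).trans
          (orderOf_dvd_of_pow_eq_one (by rw [← map_pow, pow_three', hw3, map_one]))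
    have hk3 : k * k * k = 1 := cube_self k key
    refine hchar x ?_ ?_
    · rw [hk]; exact mul_mem (Subgroup.map_subtype_le _ ho) ((hK k).2 hk3)
    · exact ((Nat.Prime.coprime_iff_not_dvd Nat.prime_three).2
        fun hd => L.cop h hh h1 (hd.trans (Subgroup.orderOf_dvd_natCard _ hx))).symm
  have cent : ∀ h : Mod, h * h * h = 1 → h ≠ 1 → O ⊓ Subgroup.centralizer ({ι h} : Set G) = Q h := by
    intro h hh h1
    refine le_antisymm (fun x hx => ?_) (le_inf (hQO h hh h1) (L.le h hh h1))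
    obtain ⟨n, hn, k, -, hk⟩ := L.dec h hh h1 x hx.2
    have : ι k ∈ O := by
      rw [show ι k = n⁻¹ * x by rw [hk, inv_mul_cancel_left]]
      exact mul_mem (inv_mem (hQO h hh h1 hn)) hx.1
    rw [hk, meet k this, map_one, mul_one]
    exact hn
  -- the coprime action of the Sylow subgroup
  have hncyc : ¬ IsCyclic (T : Subgroup G) := fun hc => by
    have h1 := IsCyclic.exponent_eq_card (α := (T : Subgroup G))
    have h2 : Monoid.exponent (T : Subgroup G) ∣ 3 :=
      Monoid.exponent_dvd_of_forall_pow_eq_one fun ⟨x, hx⟩ => by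
        obtain ⟨h, hh, rfl⟩ := hmemT.1 hx
        refine Subtype.ext ?_
        rw [SubmonoidClass.coe_pow, ← map_pow, pow_three', hh, map_one]; rfl
    rw [h1, hT, Subgroup.card_map_of_injective L.inj,
      show Nat.card cubes = 9 by
        rw [Nat.card_congr (Equiv.subtypeEquivRight fun h : Mod => mem_cubes),
          Nat.card_eq_fintype_card, Fintype.card_subtype, card_cube]] at h2
    norm_num at h2
  have hTO : (T : Subgroup G) ≤ Subgroup.normalizer (O : Set G) := by
    rw [Subgroup.normalizer_eq_top_iff.2 hOn]; exact le_top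
  have hcT : (Nat.card (T : Subgroup G)).Coprime (Nat.card O) := by
    obtain ⟨n, hn⟩ := T.isPGroup'.exists_card_eq
    rw [hn]
    exact Nat.Coprime.pow_left n ((Nat.Prime.coprime_iff_not_dvd Nat.prime_three).2 hcop)
  haveI : IsMulCommutative (T : Subgroup G) :=
    ⟨⟨fun a b => Subtype.ext (hcommT _ a.2 _ b.2)⟩⟩
  have hgen := CoprimeAct.generated_by_centralizers (A := (T : Subgroup G)) (K := O) hncyc hTO hcT
  have gen : O = ⨆ h ∈ {h : Mod | h * h * h = 1 ∧ h ≠ 1}, Q h := by
    refine le_antisymm ?_ (iSup₂_le fun h hh => hQO h hh.1 hh.2)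
    conv_lhs => rw [← hgen]
    refine iSup₂_le fun a ha => ?_
    obtain ⟨h, hh, rfl⟩ := hmemT.1 ha.1
    have h1 : h ≠ 1 := fun e => ha.2 (by rw [e, map_one])
    rw [cent h hh h1]
    exact le_iSup₂_of_le h (show h ∈ {h : Mod | h * h * h = 1 ∧ h ≠ 1} from ⟨hh, h1⟩) le_rfl
  refine ⟨O, hOn, hcop, meet, prod, cent, gen, ?_⟩
  set B := (T : Subgroup G) with hB
  have hBe : IsElementaryAbelian 3 B := by
    refine ⟨‹_›, fun b hb => ?_⟩
    obtain ⟨h, hh, rfl⟩ := hmemT.1 hb
    rw [← map_pow, pow_three', hh, map_one]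
  have hBc : Nat.card B = 3 ^ 2 := by
    rw [hT, Subgroup.card_map_of_injective L.inj,
      Nat.card_congr (Equiv.subtypeEquivRight fun h : Mod => mem_cubes),
      Nat.card_eq_fintype_card, Fintype.card_subtype, card_cube]
    norm_num
  have hform := WielandtOrder.formula hBe hBc O hTO hcT
  set v : Fin 4 → Mod := ![rep (1, 0), rep (0, 1), rep (1, 1), (.r 1, .r 2)] with hv
  let e : Fin 4 → WielandtOrder.lines 3 B := fun i => ⟨Subgroup.zpowers (ι (v i)),
    Subgroup.zpowers_le.2 (hmemT.2 ⟨v i, (four_cube i).1, rfl⟩), by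
      rw [Nat.card_zpowers]
      refine orderOf_eq_prime (by rw [← map_pow, pow_three', (four_cube i).1, map_one]) fun h => ?_
      exact (four_cube i).2 (L.inj (h.trans (map_one ι).symm))⟩
  have hbij : Function.Bijective e := by
    refine (Fintype.bijective_iff_injective_and_card e).2 ⟨fun i j hij => ?_, by
      rw [Fintype.card_fin, WielandtOrder.card_lines hBe hBc]⟩
    by_contra hne
    have hmem : ι (v i) ∈ Subgroup.zpowers (ι (v j)) := by
      have : Subgroup.zpowers (ι (v i)) = Subgroup.zpowers (ι (v j)) := congrArg Subtype.val hij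
      exact this ▸ Subgroup.mem_zpowers _
    obtain ⟨n, hn⟩ := (isOfFinOrder_of_finite _).mem_powers_iff_mem_zpowers.2 hmem
    refine four_apart i j hne ⟨n % 3, Nat.mod_lt _ (by norm_num)⟩ (L.inj ?_)
    show ι (v i) = ι (v j ^ (n % 3))
    rw [map_pow, ← pow_eq_pow_mod n (show ι (v j) ^ 3 = 1 by
      rw [← map_pow, pow_three', (four_cube j).1, map_one])]
    exact hn.symm
  have hbot : O ⊓ Subgroup.centralizer (B : Set G) = ⊥ := by
    rw [eq_bot_iff]
    intro x hx
    refine Subgroup.mem_bot.2 (L.free x ?_ ?_)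
    · rw [← cent _ (show rep (1, 0) * rep (1, 0) * rep (1, 0) = 1 by decide +kernel) (by decide +kernel)]
      exact ⟨hx.1, Subgroup.mem_centralizer_singleton_iff.2
        (Subgroup.mem_centralizer_iff.1 hx.2 _ (hmemT.2 ⟨_, by decide +kernel, rfl⟩)).symm⟩
    · exact (Subgroup.mem_centralizer_iff.1 hx.2 _ (hmemT.2 ⟨_, by decide +kernel, rfl⟩)).symm
  rw [hbot, Subgroup.card_bot, one_pow, mul_one, ← hbij.prod_comp, Fin.prod_univ_four] at hform
  have hl : ∀ i, Nat.card ↥(O ⊓ Subgroup.centralizer (((e i : Subgroup G)) : Set G)) =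
      Nat.card (Q (v i)) := fun i => by
    rw [show ((e i : Subgroup G)) = Subgroup.zpowers (ι (v i)) from rfl, Subgroup.zpowers_eq_closure,
      Subgroup.centralizer_closure, cent _ (four_cube i).1 (four_cube i).2]
  rw [hl, hl, hl, hl] at hform
  rw [hform]
  rfl

end Loc

end Cfsg.Agent.Co2Three.Grid
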