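import Cfsg.Agent.Lib.GridBlock.Core

/-!
S3336: a Sylow subgroup of order nine with normaliser `S₃ × S₃` in which every non-identity element has, in its
centraliser, a core of exponent two (the variant of the block theorem with no trivial core).
-/

set_option autoImplicit false
set_option maxRecDepth 20000
set_option linter.style.haveILetI false
set_option linter.unusedSectionVars false

namespace Cfsg.Agent.Co2Three.Grid

open Cfsg Cfsg.Agent.Char Cfsg.Agent.Blocks Cfsg.Agent.LocalTI Cfsg.Agent.ThreeTI.Grid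
open Cfsg.Agent.GridBlock (tp up tp_spec six_all cube_cube cube_conj cube_self three_or_two regular_mul section_const
  section_sum_zero)
open scoped ComplexConjugate

universe u

variable {G : Type u} [Group G]

/-- The local hypotheses: the cores of the centralisers. -/
structure Loc (ι : Mod →* G) (Q : Mod → Subgroup G) : Prop where
  inj : Function.Injective ι
  fusion : ∀ h h' : Mod, h * h * h = 1 → h' * h' * h' = 1 → IsConj (ι h) (ι h') → IsConj h h'
  le : ∀ h : Mod, h * h * h = 1 → h ≠ 1 → Q h ≤ Subgroup.centralizer ({ι h} : Set G)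
  nor : ∀ h : Mod, h * h * h = 1 → h ≠ 1 → ∀ c ∈ Subgroup.centralizer ({ι h} : Set G), ∀ n ∈ Q h,
    c * n * c⁻¹ ∈ Q h
  cop : ∀ h : Mod, h * h * h = 1 → h ≠ 1 → ¬ 3 ∣ Nat.card (Q h)
  dec : ∀ h : Mod, h * h * h = 1 → h ≠ 1 → ∀ c ∈ Subgroup.centralizer ({ι h} : Set G),
    ∃ n ∈ Q h, ∃ k : Mod, k * h = h * k ∧ c = n * ι k
  invol : ∀ h : Mod, h * h * h = 1 → h ≠ 1 → ∀ n ∈ Q h, n * n = 1
  free : ∀ n ∈ Q (rep (1, 0)), Commute n (ι (rep (0, 1))) → n = 1
  cube : ∀ g : G, g * g * g = 1 → ∀ h : Mod, h * h * h = 1 → h ≠ 1 → Commute g (ι h) →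
    ∃ n ∈ Q h, ∃ k : Mod, k * k * k = 1 ∧ n * ι k * n⁻¹ = g

namespace Loc

variable {ι : Mod →* G} {Q : Mod → Subgroup G} (L : Loc ι Q)
include L

theorem trivial_meet {h m : Mod} (hh : h * h * h = 1) (h1 : h ≠ 1) (hm : ι m ∈ Q h) : m = 1 := by
  have key : ∀ k : Mod, k * k * k = 1 → ι k ∈ Q h → k = 1 := by
    intro k hk hkQ
    refine L.inj ?_
    rw [map_one]
    have h3 : orderOf (ι k) ∣ 3 := orderOf_dvd_of_pow_eq_one (by rw [← map_pow, pow_three', hk, map_one])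
    rcases (Nat.dvd_prime Nat.prime_three).1 h3 with e | e
    · exact orderOf_eq_one_iff.1 e
    · exact absurd (e ▸ Subgroup.orderOf_dvd_natCard (Q h) hkQ) (L.cop h hh h1)
  refine key m (cube_self m fun t ht => key _ (cube_conj m t ht).2 ?_) hm
  have hc : ι t ∈ Subgroup.centralizer ({ι h} : Set G) := Subgroup.mem_centralizer_singleton_iff.2
    (by rw [← map_mul, ← map_mul, cube_cube h t hh ht])
  have h2 := L.nor h hh h1 _ hc _ (inv_mem hm)
  rw [map_mul, map_mul, map_mul, map_inv, map_inv,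
    show ι m * ι t * (ι m)⁻¹ * (ι t)⁻¹ = ι m * (ι t * (ι m)⁻¹ * (ι t)⁻¹) by group]
  exact mul_mem hm h2

theorem mem_cent {h k : Mod} (hk : k * h = h * k) : ι k ∈ Subgroup.centralizer ({ι h} : Set G) :=
  Subgroup.mem_centralizer_singleton_iff.2 (by rw [← map_mul, ← map_mul, hk])

/-- The value averaged over the core. -/
noncomputable def av [Fintype G] (_L : Loc ι Q) (χ : IrrCharacter G) (h : Mod) : ℂ := by
  classical
  exact (Nat.card (Q (tp h)) : ℂ)⁻¹ * ∑ n : Q (tp h), (χ : G → ℂ) (ι h * (n : G))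

variable [Fintype G]

/-- The core inside the centraliser. -/
theorem normal_sub {h : Mod} (hh : h * h * h = 1) (h1 : h ≠ 1) :
    ((Q h).subgroupOf (Subgroup.centralizer ({ι h} : Set G))).Normal :=
  ⟨fun n hn c => L.nor h hh h1 c c.2 n hn⟩

theorem section_setup {h : Mod} (hD : Dset h) :
    ¬ 3 ∣ orderOf (⟨ι (up h), L.mem_cent (tp_spec h hD).2.2.2.2.1⟩ :
      Subgroup.centralizer ({ι (tp h)} : Set G)) := by
  intro hd
  rw [← Subgroup.orderOf_coe] at hd
  have : orderOf (ι (up h)) ∣ 2 := orderOf_dvd_of_pow_eq_one (by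
    rw [← map_pow, pow_two, (tp_spec h hD).2.2.2.1, map_one])
  exact absurd (Nat.le_of_dvd (by norm_num) (hd.trans this)) (by norm_num)

variable {M : Ideal AlgInt} [M.IsPrime]

theorem tp_pow {h : Mod} (hD : Dset h) : ∃ k, orderOf (ι (tp h)) = 3 ^ k :=
  ⟨1, by
    rw [pow_one]
    refine orderOf_eq_prime ?_ fun e => (tp_spec h hD).2.2.1 (L.inj (e.trans (map_one ι).symm))
    rw [← map_pow, pow_three', (tp_spec h hD).2.1, map_one]⟩

theorem const (hM : IsPModular 3 M) {χ : IrrCharacter G} (hχ : χ ∈ principalBlock M G) {h : Mod}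
    (hD : Dset h) {n : G} (hn : n ∈ Q (tp h)) : (χ : G → ℂ) (ι h * n) = (χ : G → ℂ) (ι h) := by
  obtain ⟨e1, e2, e3, -⟩ := tp_spec h hD
  set C := Subgroup.centralizer ({ι (tp h)} : Set G)
  haveI : Fintype C := Fintype.ofFinite _
  haveI := L.normal_sub e2 e3
  have h' := section_const ((Q (tp h)).subgroupOf C) hM (L.tp_pow hD) rfl
    (by rw [Nat.card_congr (Subgroup.subgroupOfEquivOfLe (L.le _ e2 e3)).toEquiv]; exact L.cop _ e2 e3)
    hχ (L.section_setup hD) (v := ⟨n, L.le _ e2 e3 hn⟩) hn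
  rwa [Subgroup.coe_mul, ← mul_assoc, ← map_mul, e1] at h'

theorem av_mem (hM : IsPModular 3 M) {χ : IrrCharacter G} (hχ : χ ∈ principalBlock M G) {h : Mod}
    (hD : Dset h) : L.av χ h = (χ : G → ℂ) (ι h) := by
  classical
  rw [av, Finset.sum_congr rfl fun (n : Q (tp h)) _ => L.const hM hχ hD n.2, Finset.sum_const,
    Finset.card_univ, ← Nat.card_eq_fintype_card, nsmul_eq_mul,
    inv_mul_cancel_left₀ (Nat.cast_ne_zero.2 Nat.card_pos.ne')]

theorem sum_core (hM : IsPModular 3 M) {χ : IrrCharacter G} (hχ : χ ∉ principalBlock M G) {h : Mod}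
    (hD : Dset h) [Fintype (Q (tp h))] : ∑ n : Q (tp h), (χ : G → ℂ) (ι h * (n : G)) = 0 := by
  classical
  obtain ⟨e1, e2, e3, -⟩ := tp_spec h hD
  haveI : Fact (Nat.Prime 3) := ⟨Nat.prime_three⟩
  set C := Subgroup.centralizer ({ι (tp h)} : Set G) with hC
  haveI : Fintype C := Fintype.ofFinite _
  haveI := L.normal_sub e2 e3
  set N := (Q (tp h)).subgroupOf C with hN
  haveI : Fintype N := Fintype.ofFinite _
  haveI : Fintype (C ⧸ N) := Fintype.ofFinite _
  -- the image of the Sylow subgroup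
  have hmem : ∀ t : Mod, t * t * t = 1 → ι t ∈ C := fun t ht => L.mem_cent (cube_cube _ t e2 ht)
  let S : Subgroup (C ⧸ N) :=
    { carrier := {q | ∃ (t : Mod) (ht : t * t * t = 1), QuotientGroup.mk' N ⟨ι t, hmem t ht⟩ = q}
      one_mem' := ⟨1, by simp, by
        rw [show (⟨ι 1, hmem 1 (by simp)⟩ : C) = 1 from Subtype.ext (map_one ι), map_one]⟩
      mul_mem' := by
        rintro _ _ ⟨s, hs, rfl⟩ ⟨t, ht, rfl⟩
        refine ⟨s * t, ?_, ?_⟩
        · have := cube_cube s t hs ht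
          calc s * t * (s * t) * (s * t) = s * (t * s) * (t * s) * t := by group
            _ = s * (s * t) * (s * t) * t := by rw [this]
            _ = s * s * (t * s) * t * t := by group
            _ = (s * s * s) * (t * t * t) := by rw [this]; group
            _ = 1 := by rw [hs, ht, one_mul]
        · rw [← map_mul]
          exact congrArg _ (Subtype.ext (map_mul ι s t))
      inv_mem' := by
        rintro _ ⟨t, ht, rfl⟩
        refine ⟨t⁻¹, ?_, ?_⟩
        · rw [← mul_inv_rev, ← mul_inv_rev, ← mul_assoc, ht, inv_one]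
        · rw [← map_inv]
          exact congrArg _ (Subtype.ext (map_inv ι t)) }
  have hdec : ∀ q : C ⧸ N, ∃ (k : Mod) (hk : k * tp h = tp h * k),
      QuotientGroup.mk' N ⟨ι k, L.mem_cent hk⟩ = q := by
    intro q
    obtain ⟨c, rfl⟩ := QuotientGroup.mk'_surjective N q
    obtain ⟨n, hn, k, hk, hck⟩ := L.dec _ e2 e3 c c.2
    refine ⟨k, hk, ?_⟩
    have : c = ⟨n, L.le _ e2 e3 hn⟩ * ⟨ι k, L.mem_cent hk⟩ := Subtype.ext hck
    rw [this, map_mul,
      show QuotientGroup.mk' N ⟨n, L.le _ e2 e3 hn⟩ = 1 from (QuotientGroup.eq_one_iff _).2 hn, one_mul]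
  haveI : S.Normal := ⟨by
    rintro _ ⟨t, ht, rfl⟩ q
    obtain ⟨k, hk, rfl⟩ := hdec q
    refine ⟨k * t * k⁻¹, (cube_conj k t ht).1, ?_⟩
    rw [← map_inv, ← map_mul, ← map_mul]
    exact congrArg _ (Subtype.ext (by simp))⟩
  have hSp : IsPGroup 3 S := by
    rintro ⟨_, t, ht, rfl⟩
    refine ⟨1, Subtype.ext ?_⟩
    rw [pow_one, Subgroup.coe_pow, Subgroup.coe_one, ← map_pow,
      show (⟨ι t, hmem t ht⟩ : C) ^ 3 = 1 from Subtype.ext (by
        rw [Subgroup.coe_pow, ← map_pow, pow_three', ht, map_one]; rfl), map_one]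
  have hSc : Subgroup.centralizer (S : Set (C ⧸ N)) ≤ S := by
    intro q hq
    obtain ⟨k, hk, rfl⟩ := hdec q
    refine ⟨k, cube_self k fun t ht => L.trivial_meet e2 e3 ?_, rfl⟩
    have hcomm := Subgroup.mem_centralizer_iff.1 hq _ ⟨t, ht, rfl⟩
    rw [← map_mul, ← map_mul] at hcomm
    have h1 : QuotientGroup.mk' N ((⟨ι k, L.mem_cent hk⟩ : C) * ⟨ι t, hmem t ht⟩ *
        (⟨ι k, L.mem_cent hk⟩ : C)⁻¹ * (⟨ι t, hmem t ht⟩ : C)⁻¹) = 1 := by
      rw [map_mul, map_mul, ← hcomm, map_mul, map_inv, map_inv]; group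
    have h2 := (QuotientGroup.eq_one_iff _).1 h1
    simpa [hN, Subgroup.mem_subgroupOf] using h2
  have hN3 : ¬ 3 ∣ Nat.card N := by
    rw [hN, Nat.card_congr (Subgroup.subgroupOfEquivOfLe (L.le _ e2 e3)).toEquiv]; exact L.cop _ e2 e3
  have h0 := section_sum_zero N hM (L.tp_pow hD) rfl hN3 S hSp hSc hχ (L.section_setup hD)
  refine Eq.trans ?_ h0
  refine (Fintype.sum_equiv (Subgroup.subgroupOfEquivOfLe (L.le _ e2 e3)).toEquiv _ _ fun v => ?_).symm
  show (χ : G → ℂ) (ι (tp h) * ((ι (up h)) * ((v : C) : G))) = _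
  rw [← mul_assoc, ← map_mul, e1]
  rfl

theorem av_not_mem (hM : IsPModular 3 M) {χ : IrrCharacter G} (hχ : χ ∉ principalBlock M G) {h : Mod}
    (hD : Dset h) : L.av χ h = 0 := by
  classical
  rw [av, L.sum_core hM hχ hD, mul_zero]

/-- An element moving one section to another comes from the model up to the core. -/
theorem mover {h h' : Mod} (hD : Dset h) (hD' : Dset h') {n x : G} (hn : n ∈ Q (tp h'))
    (hx : x * ι h * x⁻¹ = ι h' * n) :
    ∃ c ∈ Q (tp h'), ∃ k : Mod, k * h * k⁻¹ = h' ∧ x = c * ι k := by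
  obtain ⟨e1, e2, -⟩ := tp_spec h hD
  obtain ⟨f1, f2, f3, f4, f5, f6⟩ := tp_spec h' hD'
  have hy6 : (ι h' * n) ^ 6 = 1 := by
    rw [← hx, conj_pow, ← map_pow, six_all, map_one]; group
  have hnC : Commute (ι (tp h')) n :=
    (Subgroup.mem_centralizer_singleton_iff.1 (L.le _ f2 f3 hn)).symm
  have hw : ι h' * n = ι (tp h') * (ι (up h') * n) := by rw [← mul_assoc, ← map_mul, f1]
  have hcw : Commute (ι (tp h')) (ι (up h') * n) :=
    Commute.mul_right (by rw [Commute, SemiconjBy, ← map_mul, ← map_mul, f5]) hnC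
  have hw6 : (ι (up h') * n) ^ 6 = 1 := by
    have := hy6
    rwa [hw, hcw.mul_pow, ← map_pow, six_all, map_one, one_mul] at this
  have hw2 : (ι (up h') * n) ^ 2 = 1 := by
    haveI := L.normal_sub f2 f3
    haveI : Fintype (Subgroup.centralizer ({ι (tp h')} : Set G)) := Fintype.ofFinite _
    have hreg := regular_mul ((Q (tp h')).subgroupOf (Subgroup.centralizer ({ι (tp h')} : Set G)))
      Nat.prime_three
      (by rw [Nat.card_congr (Subgroup.subgroupOfEquivOfLe (L.le _ f2 f3)).toEquiv]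
          exact L.cop _ f2 f3)
      (L.section_setup hD') (v := ⟨n, L.le _ f2 f3 hn⟩) hn
    rw [← Subgroup.orderOf_coe, Subgroup.coe_mul] at hreg
    have h6 := orderOf_dvd_of_pow_eq_one hw6
    rcases (Nat.dvd_mul.1 (show orderOf (ι (up h') * n) ∣ 2 * 3 from h6)) with ⟨a, b, ha, hb, hab⟩
    rcases (Nat.dvd_prime Nat.prime_three).1 hb with rfl | rfl
    · exact orderOf_dvd_iff_pow_eq_one.1 (by rwa [← hab, mul_one])
    · exact absurd (hab ▸ Dvd.intro_left a rfl) hreg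
  have h4 : x * ι (tp h) * x⁻¹ = ι (tp h') := by
    rw [tp, map_pow, ← conj_pow, hx, hw, hcw.mul_pow,
      show (ι (up h') * n) ^ 4 = ((ι (up h') * n) ^ 2) ^ 2 by rw [← pow_mul], hw2, one_pow,
      mul_one, ← map_pow]
    exact congrArg ι ((show ∀ t : Mod, t * t * t = 1 → t ^ 4 = t by decide +kernel) _ f2)
  obtain ⟨k0, hk0⟩ := isConj_iff.1 (L.fusion _ _ e2 f2 (isConj_iff.2 ⟨x, h4⟩))
  have hcx : x * (ι k0)⁻¹ ∈ Subgroup.centralizer ({ι (tp h')} : Set G) := by
    refine Subgroup.mem_centralizer_singleton_iff.2 (mul_inv_eq_iff_eq_mul.1 ?_)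
    conv_lhs => rw [← hk0]
    rw [map_mul, map_mul, map_inv]
    refine Eq.trans ?_ h4
    group
  obtain ⟨c, hc, k1, -, hck⟩ := L.dec _ f2 f3 _ hcx
  have hx' : x = c * ι (k1 * k0) := by rw [map_mul, ← mul_assoc, ← hck]; group
  refine ⟨c, hc, k1 * k0, ?_, hx'⟩
  have hmem : ι (h'⁻¹ * (k1 * k0 * h * (k1 * k0)⁻¹)) ∈ Q (tp h') := by
    have e : ι (h'⁻¹ * (k1 * k0 * h * (k1 * k0)⁻¹)) = ((ι h')⁻¹ * c⁻¹ * (ι h')⁻¹⁻¹) * n * c := by
      rw [map_mul ι h'⁻¹, map_mul ι (k1 * k0 * h), map_mul ι (k1 * k0) h, map_inv, map_inv]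
      calc (ι h')⁻¹ * (ι (k1 * k0) * ι h * (ι (k1 * k0))⁻¹)
          = (ι h')⁻¹ * (c⁻¹ * (x * ι h * x⁻¹) * c) := by rw [hx']; group
        _ = _ := by rw [hx]; group
    rw [e]
    exact mul_mem (mul_mem (L.nor _ f2 f3 _ (inv_mem (L.mem_cent f6)) _ (inv_mem hc)) hn) hc
  exact (inv_mul_eq_one.1 (L.trivial_meet f2 f3 hmem)).symm

open scoped Classical in
/-- The pairing of the principal block on two sections. -/
theorem pairing (hM : IsPModular 3 M) {h h' : Mod} (hD : Dset h) (hD' : Dset h') :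
    ∑ χ : IrrCharacter G, (if χ ∈ principalBlock M G then
        (χ : G → ℂ) (ι h') * conj ((χ : G → ℂ) (ι h)) else 0) =
      ((Finset.univ.filter fun x : Mod => x * h * x⁻¹ = h').card : ℂ) := by
  obtain ⟨e1, e2, e3, e4, e5, -⟩ := tp_spec h hD
  obtain ⟨f1, f2, f3, f4, f5, -⟩ := tp_spec h' hD'
  set N := Q (tp h') with hN
  have step : ∀ χ : IrrCharacter G, (if χ ∈ principalBlock M G then
      (χ : G → ℂ) (ι h') * conj ((χ : G → ℂ) (ι h)) else 0) =
      L.av χ h' * conj ((χ : G → ℂ) (ι h)) := fun χ => by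
    split_ifs with hχ
    · rw [L.av_mem hM hχ hD']
    · rw [L.av_not_mem hM hχ hD', zero_mul]
  rw [Finset.sum_congr rfl fun χ _ => step χ]
  simp only [av, Finset.mul_sum, Finset.sum_mul]
  rw [Finset.sum_comm]
  rw [Finset.sum_congr rfl fun (n : N) _ => Finset.sum_congr rfl fun (χ : IrrCharacter G) _ =>
    mul_assoc (Nat.card N : ℂ)⁻¹ ((χ : G → ℂ) (ι h' * (n : G))) (conj ((χ : G → ℂ) (ι h)))]
  simp only [← Finset.mul_sum]
  rw [Finset.sum_congr rfl fun (n : N) _ => column_orth_count (ι h' * (n : G)) (ι h)]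
  -- the elements moving one section to the other
  have hfil : ∑ n : N, (Finset.univ.filter fun x : G => x * ι h * x⁻¹ = ι h' * (n : G)).card =
      Fintype.card N * (Finset.univ.filter fun x : Mod => x * h * x⁻¹ = h').card := by
    rw [← Finset.card_univ (α := N), ← Finset.card_product, ← Finset.card_sigma]
    refine (Finset.card_bij (fun q _ => (⟨⟨(ι h')⁻¹ * ((q.1 : G) * ι h' * (q.1 : G)⁻¹), ?_⟩,
        (q.1 : G) * ι q.2⟩ : Σ _ : N, G)) (fun q hq => ?_) (fun q _ q' _ he => ?_) (fun s hs => ?_)).symm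
    · rw [show (ι h')⁻¹ * ((q.1 : G) * ι h' * (q.1 : G)⁻¹) =
        ((ι h')⁻¹ * (q.1 : G) * (ι h')⁻¹⁻¹) * (q.1 : G)⁻¹ by group]
      exact mul_mem (L.nor _ f2 f3 _ (inv_mem (L.mem_cent (tp_spec h' hD').2.2.2.2.2)) _ q.1.2)
        (inv_mem q.1.2)
    · refine Finset.mem_sigma.2 ⟨Finset.mem_univ _, Finset.mem_filter.2 ⟨Finset.mem_univ _, ?_⟩⟩
      have hk := (Finset.mem_filter.1 (Finset.mem_product.1 hq).2).2
      show (q.1 : G) * ι q.2 * ι h * ((q.1 : G) * ι q.2)⁻¹ =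
        ι h' * ((ι h')⁻¹ * ((q.1 : G) * ι h' * (q.1 : G)⁻¹))
      rw [← hk, map_mul, map_mul, map_inv]
      group
    · have e : (q.1 : G) * ι q.2 = (q'.1 : G) * ι q'.2 := congrArg (fun t : Σ _ : N, G => t.2) he
      have hk : ι (q.2 * q'.2⁻¹) ∈ Q (tp h') := by
        rw [map_mul, map_inv, show ι q.2 * (ι q'.2)⁻¹ = (q.1 : G)⁻¹ * ((q.1 : G) * ι q.2) * (ι q'.2)⁻¹ by
          group, e, show (q.1 : G)⁻¹ * ((q'.1 : G) * ι q'.2) * (ι q'.2)⁻¹ = (q.1 : G)⁻¹ * q'.1 by group]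
        exact mul_mem (inv_mem q.1.2) q'.1.2
      have h2 : q.2 = q'.2 := mul_inv_eq_one.1 (L.trivial_meet f2 f3 hk)
      rw [h2] at e
      exact Prod.ext (Subtype.ext (mul_right_cancel e)) h2
    · obtain ⟨⟨n, hn⟩, x⟩ := s
      have hx : x * ι h * x⁻¹ = ι h' * n := (Finset.mem_filter.1 (Finset.mem_sigma.1 hs).2).2
      obtain ⟨c, hc, k, hk, hxk⟩ := L.mover hD hD' hn hx
      refine ⟨(⟨c, hc⟩, k), Finset.mem_product.2 ⟨Finset.mem_univ _,
        Finset.mem_filter.2 ⟨Finset.mem_univ _, hk⟩⟩, ?_⟩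
      refine Sigma.ext (Subtype.ext ?_) (heq_of_eq hxk.symm)
      show (ι h')⁻¹ * (c * ι h' * c⁻¹) = n
      rw [eq_inv_mul_of_mul_eq (show ι h' * n = ι h' * n from rfl)]
      rw [← hx, hxk, ← hk, map_mul, map_mul, map_inv]
      group
  rw [← Nat.cast_sum, hfil, Nat.cast_mul, ← Nat.card_eq_fintype_card,
    inv_mul_cancel_left₀ (Nat.cast_ne_zero.2 Nat.card_pos.ne')]

end Loc

end Cfsg.Agent.Co2Three.Grid
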